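import Mathlib
import Cfsg.Agent.Lib.Involutions.Isolated
import Cfsg.Agent.Lib.RealElt.Basic

/-!
# Real elements and Sylow 2-subgroups: small general facts
-/

set_option autoImplicit false
set_option linter.unusedSectionVars false

open scoped Pointwise

namespace CfsgLib.FgsD.RealGraph

open Subgroup CfsgLib.Involutions

variable {G : Type*} [Group G]

/-- A nontrivial element of odd order conjugate to its inverse. -/
def RealOdd (x : G) : Prop := x ≠ 1 ∧ Odd (orderOf x) ∧ IsConj x x⁻¹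

theorem realOdd_of_inverted {x u : G} (h1 : x ≠ 1) (ho : Odd (orderOf x))
    (h : u * x * u⁻¹ = x⁻¹) : RealOdd x :=
  ⟨h1, ho, isConj_iff.2 ⟨u, h⟩⟩

theorem RealOdd.conj {x : G} (h : RealOdd x) (g : G) : RealOdd (g * x * g⁻¹) := by
  refine ⟨fun e => h.1 (conj_eq_one_iff.1 e), by rw [orderOf_conj_eq]; exact h.2.1, ?_⟩
  rw [show (g * x * g⁻¹)⁻¹ = g * x⁻¹ * g⁻¹ by group]
  exact ((isConj_iff.2 ⟨g, rfl⟩ : IsConj x (g * x * g⁻¹)).symm.trans h.2.2).trans
    (isConj_iff.2 ⟨g, rfl⟩)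

/-- An element of odd order lies in the group generated by its square. -/
theorem commute_of_sq {y w : G} (ho : Odd (orderOf y)) (h : Commute w (y ^ 2)) : Commute w y := by
  obtain ⟨k, hk⟩ := exists_zpow_sq_eq ho
  have := h.zpow_right k
  rwa [← zpow_natCast, ← zpow_mul, mul_comm, zpow_mul, zpow_natCast, hk] at this

theorem inv_zpow_of_inverted {u x : G} (h : u * x * u⁻¹ = x⁻¹) (k : ℤ) :
    u * x ^ k * u⁻¹ = (x ^ k)⁻¹ := by
  rw [← conj_zpow, h, inv_zpow]

theorem inv_pow_of_inverted {u x : G} (h : u * x * u⁻¹ = x⁻¹) (k : ℕ) :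
    u * x ^ k * u⁻¹ = (x ^ k)⁻¹ := by
  rw [← conj_pow, h, inv_pow]

/-- Some power of a non-trivial element of odd order has prime order. -/
theorem exists_pow_prime [Finite G] {x : G} (h1 : x ≠ 1) (ho : Odd (orderOf x)) :
    ∃ (k p : ℕ), p.Prime ∧ p ≠ 2 ∧ orderOf (x ^ k) = p := by
  obtain ⟨p, hp, hpd⟩ := Nat.exists_prime_and_dvd (mt orderOf_eq_one_iff.1 h1)
  refine ⟨_, p, hp, ?_, orderOf_pow_orderOf_div (orderOf_pos x).ne' hpd⟩
  rintro rfl
  exact absurd (Odd.of_dvd_nat ho hpd) (by decide)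

/-- A `2`-element fixing a Sylow 2-subgroup lies in it. -/
theorem mem_of_smul_eq [Finite G] {T : Sylow 2 G} {v : G} {k : ℕ} (hv : orderOf v = 2 ^ k)
    (hfix : v • T = T) : v ∈ (T : Subgroup G) := by
  have : Fact (Nat.Prime 2) := ⟨Nat.prime_two⟩
  have hn : v ∈ normalizer ((T : Subgroup G) : Set G) := Sylow.smul_eq_iff_mem_normalizer.1 hfix
  have hz : IsPGroup 2 (zpowers v) := IsPGroup.of_card (n := k) (by rw [Nat.card_zpowers, hv])
  have hsup : IsPGroup 2 ((T : Subgroup G) ⊔ zpowers v : Subgroup G) :=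
    T.2.to_sup_of_normal_left' hz (zpowers_le.2 hn)
  exact (T.3 hsup le_sup_left).le (mem_sup_right (mem_zpowers v))

theorem smul_eq_of_mem {T : Sylow 2 G} {v : G} (hv : v ∈ (T : Subgroup G)) : v • T = T :=
  Sylow.smul_eq_iff_mem_normalizer.2 (le_normalizer hv)

theorem mem_smul {g x : G} {T : Sylow 2 G} :
    x ∈ ((g • T : Sylow 2 G) : Subgroup G) ↔ g⁻¹ * x * g ∈ (T : Subgroup G) :=
  mem_smul_sylow_iff'

/-- The elementary abelian subgroup of the elements `z` of `S` with `z * z = 1` centralising `S`. -/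
def zInv (S : Sylow 2 G) : Subgroup G where
  carrier := {z | z ∈ (S : Subgroup G) ∧ z * z = 1 ∧ ∀ s ∈ (S : Subgroup G), Commute s z}
  one_mem' := ⟨one_mem _, mul_one _, fun s _ => Commute.one_right s⟩
  mul_mem' := fun {a b} ha hb =>
    ⟨mul_mem ha.1 hb.1, by
      calc a * b * (a * b) = a * (b * a) * b := by group
        _ = a * (a * b) * b := by rw [(hb.2.2 a ha.1).eq]
        _ = (a * a) * (b * b) := by group
        _ = 1 := by rw [ha.2.1, hb.2.1, one_mul],
      fun s hs => (ha.2.2 s hs).mul_right (hb.2.2 s hs)⟩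
  inv_mem' := fun {a} ha => by
    have h : a⁻¹ = a := inv_eq_of_mul_eq_one_right ha.2.1
    rwa [h]

theorem mem_zInv {S : Sylow 2 G} {z : G} : z ∈ zInv S ↔
    z ∈ (S : Subgroup G) ∧ z * z = 1 ∧ ∀ s ∈ (S : Subgroup G), Commute s z := Iff.rfl

theorem zInv_le (S : Sylow 2 G) : zInv S ≤ (S : Subgroup G) := fun _ h => h.1

theorem zInv_commute {S : Sylow 2 G} {a b : G} (ha : a ∈ zInv S) (hb : b ∈ zInv S) :
    Commute a b := hb.2.2 a ha.1

theorem orderOf_zInv {S : Sylow 2 G} {z : G} (hz : z ∈ zInv S) (h1 : z ≠ 1) : orderOf z = 2 :=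
  invol_iff.2 ⟨hz.2.1, h1⟩

theorem zInv_smul {S : Sylow 2 G} {z : G} (hz : z ∈ zInv S) (g : G) :
    g * z * g⁻¹ ∈ zInv (g • S) := by
  refine ⟨mem_smul.2 (by simpa [mul_assoc] using hz.1), ?_, fun s hs => ?_⟩
  · calc g * z * g⁻¹ * (g * z * g⁻¹) = g * (z * z) * g⁻¹ := by group
      _ = 1 := by rw [hz.2.1]; group
  · have h := (hz.2.2 _ (mem_smul.1 hs)).eq
    show s * (g * z * g⁻¹) = g * z * g⁻¹ * s
    calc s * (g * z * g⁻¹) = g * ((g⁻¹ * s * g) * z) * g⁻¹ := by group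
      _ = g * (z * (g⁻¹ * s * g)) * g⁻¹ := by rw [h]
      _ = g * z * g⁻¹ * s := by group

theorem zInv_ne_bot [Finite G] (S : Sylow 2 G) (hS : (S : Subgroup G) ≠ ⊥) : zInv S ≠ ⊥ := by
  have : Fact (Nat.Prime 2) := ⟨Nat.prime_two⟩
  have : Nontrivial (S : Subgroup G) := (nontrivial_iff_ne_bot _).2 hS
  have := S.2.center_nontrivial
  obtain ⟨c, hc⟩ := exists_prime_orderOf_dvd_card' 2
    (show 2 ∣ Nat.card (center (S : Subgroup G)) from by
      obtain ⟨n, hn, h⟩ := (IsPGroup.nontrivial_iff_card (S.2.to_subgroup _)).1 this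
      exact h ▸ dvd_pow_self 2 hn.ne')
  have hmem : ((c : (S : Subgroup G)) : G) ∈ zInv S := by
    refine ⟨(c : (S : Subgroup G)).2, ?_, fun s hs => ?_⟩
    · have := invol_mul_self hc
      exact congrArg (fun w : center (S : Subgroup G) => ((w : (S : Subgroup G)) : G)) this
    · exact congrArg Subtype.val (mem_center_iff.1 c.2 ⟨s, hs⟩)
  intro h
  rw [h, mem_bot] at hmem
  have : c = 1 := Subtype.ext (Subtype.ext hmem)
  simp [this] at hc

end CfsgLib.FgsD.RealGraph
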