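import Cfsg.Agent.Lib.FgsD.RealGraph.Graph

/-!
# The product of the class of a real element of odd order and the class of the witness
-/

set_option autoImplicit false
set_option linter.unusedSectionVars false

namespace CfsgLib.FgsD.RealGraph

open Subgroup CfsgLib.Involutions CfsgLib.FgsC.PrimeClasses CfsgLib.FgsC.DiscGraph

variable {G : Type*} [Group G]

/-- The commutator group `[t, G]` of an involution `t`. -/
def commG (t : G) : Subgroup G := closure {n | ∃ g : G, g * t * g⁻¹ * t = n}

theorem conjT_mem_commG (t g : G) : g * t * g⁻¹ * t ∈ commG t := subset_closure ⟨g, rfl⟩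

theorem commG_normal {t : G} (ht : orderOf t = 2) : (commG t).Normal := by
  refine ⟨fun n hn h => ?_⟩
  induction hn using closure_induction with
  | mem n hn =>
    obtain ⟨g, rfl⟩ := hn
    have e : h * (g * t * g⁻¹ * t) * h⁻¹ =
        (h * g * t * (h * g)⁻¹ * t) * (h * t * h⁻¹ * t)⁻¹ := by
      simp only [mul_inv_rev, invol_inv ht, inv_inv, mul_assoc]
      rw [← mul_assoc t t, invol_mul_self ht, one_mul, inv_mul_cancel_left]
    rw [e]
    exact mul_mem (conjT_mem_commG t (h * g)) (inv_mem (conjT_mem_commG t h))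
  | one => simp
  | mul a b _ _ iha ihb =>
    rw [show h * (a * b) * h⁻¹ = h * a * h⁻¹ * (h * b * h⁻¹) by group]
    exact mul_mem iha ihb
  | inv a _ iha =>
    rw [show h * a⁻¹ * h⁻¹ = (h * a * h⁻¹)⁻¹ by group]
    exact inv_mem iha

variable [Finite G]

theorem Witness.exists_not_commute {π : Set ℕ} {t : G} (ht : Witness π t) :
    ∃ g : G, g * t * g⁻¹ ≠ t := by
  by_contra h
  push Not at h
  refine ht.ne_one ((sz_eq_one_iff t).2 (mem_center_iff.2 fun g => ?_))
  exact mul_inv_eq_iff_eq_mul.1 (h g)

theorem Witness.commG_ne_bot {π : Set ℕ} {t : G} (ht : Witness π t) : commG t ≠ ⊥ := by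
  intro h
  obtain ⟨g, hg⟩ := ht.exists_not_commute
  have := conjT_mem_commG t g
  rw [h, mem_bot, mul_eq_one_iff_eq_inv, invol_inv ht.ord] at this
  exact hg this

namespace Split

variable {π : Set ℕ} (D : Split G π)
include D

/-- Either `[t, G]` acts on the class of `x` by translations, or it centralises `x`. -/
theorem translate {x t : G} (hx : RealOdd x) (ht : Witness π t)
    (hO : ∀ A : Subgroup G, A.Normal → (∀ a ∈ A, ∀ b ∈ A, Commute a b) →
      ∀ a ∈ A, Odd (orderOf a) → a = 1) :
    ∀ n ∈ commG t, ∀ z ∈ cls x, z * n ∈ cls x := by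
  have hN := commG_normal ht.ord
  have hr := D.isReal_mul hx ht
  have hcop := D.coprime_sz hx ht
  rcases Nat.even_or_odd (sz (x * t)) with he | ho
  · -- the size is even
    have hout := D.outS_of_even hr (even_iff_two_dvd.1 he)
    have hd : sz (x * t) ∣ sz t * sz x := by
      have h1 : centralizer ({x} : Set G) ⊓ centralizer ({t} : Set G) ≤
          centralizer ({x * t} : Set G) := fun g hg =>
        mem_cent_iff.2 ((mem_cent_iff.1 (mem_inf.1 hg).1).mul_right (mem_cent_iff.1 (mem_inf.1 hg).2))
      have h2 : (centralizer ({x} : Set G) ⊓ centralizer ({t} : Set G)).index = sz t * sz x := by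
        refine le_antisymm ((index_inf_le).trans (le_of_eq (mul_comm _ _))) ?_
        exact Nat.le_of_dvd (Nat.pos_of_ne_zero index_ne_zero_of_finite)
          (hcop.mul_dvd_of_dvd_of_dvd (index_dvd_of_le inf_le_right) (index_dvd_of_le inf_le_left))
      exact h2 ▸ index_dvd_of_le h1
    have hdk : sz (x * t) ∣ sz x := (coprime_in_out ht.ins hout).symm.dvd_of_dvd_mul_left hd
    -- `sz t ≤ sz (x * t)`
    have hle : sz t < sz x := by
      have h1 : centralizer ({x * t} : Set G) ⊓ centralizer ({x} : Set G) ≤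
          centralizer ({x} : Set G) ⊓ centralizer ({t} : Set G) := by
        intro g hg
        have h1 := mem_cent_iff.1 (mem_inf.1 hg).1
        have h2 := mem_cent_iff.1 (mem_inf.1 hg).2
        refine mem_inf.2 ⟨(mem_inf.1 hg).2, mem_cent_iff.2 ?_⟩
        have := h2.inv_right.mul_right h1
        rwa [inv_mul_cancel_left] at this
      have h2 : sz t * sz x ∣
          (centralizer ({x} : Set G) ⊓ centralizer ({t} : Set G)).index :=
        hcop.mul_dvd_of_dvd_of_dvd (index_dvd_of_le inf_le_right) (index_dvd_of_le inf_le_left)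
      have h3 : sz t * sz x ≤ sz (x * t) * sz x :=
        (Nat.le_of_dvd (Nat.pos_of_ne_zero index_ne_zero_of_finite)
          (h2.trans (index_dvd_of_le h1))).trans index_inf_le
      have h4 : sz t ≤ sz x :=
        (Nat.le_of_mul_le_mul_right h3 (sz_pos x)).trans (Nat.le_of_dvd (sz_pos x) hdk)
      refine lt_of_le_of_ne h4 fun e => ?_
      rw [e, Nat.coprime_self] at hcop
      exact ht.ne_one (e.trans hcop)
    have key := cls_mul_coprime hle ht.ne_one hcop.symm rfl rfl (Or.inl hdk)
    intro n hn
    induction hn using closure_induction with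
    | mem n hn =>
      obtain ⟨g, rfl⟩ := hn
      intro z hz
      have := key z hz (g * t * g⁻¹) ⟨g, rfl⟩
      rwa [invol_inv ht.ord] at this
    | one => simp
    | mul a b _ _ iha ihb =>
      intro z hz
      rw [← mul_assoc]
      exact ihb _ (iha z hz)
    | inv a _ iha =>
      intro z hz
      obtain ⟨⟨w, hw⟩, hwe⟩ := (Finite.injective_iff_surjective
        (f := fun w : cls x => (⟨w * a, iha w w.2⟩ : cls x))).1
        (fun u v huv => Subtype.ext (mul_right_cancel (congrArg Subtype.val huv))) ⟨z, hz⟩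
      have : w * a = z := congrArg Subtype.val hwe
      rwa [← this, mul_inv_cancel_right]
  · -- the size is odd: the conjugates of `t` invert `x`
    exfalso
    have hinv : ∀ g : G, g * t * g⁻¹ * x * (g * t * g⁻¹)⁻¹ = x⁻¹ := by
      intro g
      obtain ⟨a, b, ha, hb, e⟩ := D.exists_mul hx ht g⁻¹
      have h1 : t * x * t⁻¹ = x⁻¹ := by
        have := sq_eq_one_of_odd hr ho
        rw [invol_inv ht.ord]
        calc t * x * t = x⁻¹ * (x * t * (x * t)) := by group
          _ = x⁻¹ := by rw [this, mul_one]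
      have hg : g = b⁻¹ * a⁻¹ := by rw [← mul_inv_rev, e, inv_inv]
      have h3 : g * t * g⁻¹ = b⁻¹ * t * b := by
        rw [hg, mul_inv_rev, inv_inv, inv_inv]
        calc b⁻¹ * a⁻¹ * t * (a * b) = b⁻¹ * (a⁻¹ * (t * a)) * b := by group
          _ = b⁻¹ * (a⁻¹ * (a * t)) * b := by rw [ha.eq]
          _ = b⁻¹ * t * b := by group
      rw [h3]
      calc b⁻¹ * t * b * x * (b⁻¹ * t * b)⁻¹ = b⁻¹ * t * (b * x) * b⁻¹ * t⁻¹ * b := by group
        _ = b⁻¹ * t * (x * b) * b⁻¹ * t⁻¹ * b := by rw [hb.eq]
        _ = b⁻¹ * (t * x * t⁻¹) * b := by group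
        _ = b⁻¹ * (x⁻¹ * b) := by rw [h1]; group
        _ = b⁻¹ * (b * x⁻¹) := by rw [hb.inv_right.eq]
        _ = x⁻¹ := by group
    have hcent : ∀ n ∈ commG t, ∀ g : G, Commute n (g * x * g⁻¹) := by
      have h0 : commG t ≤ centralizer ({x} : Set G) := by
        refine (closure_le _).2 ?_
        rintro _ ⟨g, rfl⟩
        refine mem_cent_iff.2 ?_
        show g * t * g⁻¹ * t * x = x * (g * t * g⁻¹ * t)
        have h1 := hinv g
        have h2 := hinv 1
        simp only [one_mul, inv_one, mul_one] at h2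
        have h3 : t * x = x⁻¹ * t := mul_inv_eq_iff_eq_mul.1 h2
        have h4 : g * t * g⁻¹ * x⁻¹ = x * (g * t * g⁻¹) := by
          have : g * t * g⁻¹ * x⁻¹ * (g * t * g⁻¹)⁻¹ = x := by rw [← conj_inv, h1, inv_inv]
          exact mul_inv_eq_iff_eq_mul.1 this
        calc g * t * g⁻¹ * t * x = g * t * g⁻¹ * (t * x) := by group
          _ = (g * t * g⁻¹ * x⁻¹) * t := by rw [h3]; group
          _ = x * (g * t * g⁻¹ * t) := by rw [h4]; group
      intro n hn g
      have h1 := mem_cent_iff.1 (h0 (hN.conj_mem n hn g⁻¹))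
      have := h1.map (MulAut.conj g)
      simpa [mul_assoc] using this
    have hxN : x * x ∈ commG t := by
      have h := conjT_mem_commG t x
      have h2 := hinv 1
      simp only [one_mul, inv_one, mul_one] at h2
      rw [invol_inv ht.ord] at h2
      have h3 : t * x⁻¹ * t = x := by
        have := congrArg (·⁻¹) h2
        simp only [mul_inv_rev, inv_inv, invol_inv ht.ord, ← mul_assoc] at this
        exact this
      have h4 : x * t * x⁻¹ * t = x * x := by
        rw [mul_assoc x t x⁻¹, mul_assoc x (t * x⁻¹) t, h3]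
      rwa [h4] at h
    have hA : (commG t ⊓ centralizer (commG t : Set G)).Normal :=
      haveI := hN
      Subgroup.normal_inf_normal _ _
    have hx2 : x * x ∈ commG t ⊓ centralizer (commG t : Set G) := by
      refine mem_inf.2 ⟨hxN, mem_centralizer_iff.2 fun n hn => ?_⟩
      have := hcent n hn 1
      simp only [one_mul, inv_one, mul_one] at this
      exact (this.mul_right this).eq
    have h1 := hO _ hA (fun a ha b hb => ((mem_centralizer_iff.1 (mem_inf.1 ha).2) b
      (mem_inf.1 hb).1).symm) _ hx2 (Odd.of_dvd_nat hx.2.1 (orderOf_dvd_of_mem_zpowers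
        (mul_mem (mem_zpowers x) (mem_zpowers x))))
    obtain ⟨k, hk⟩ := hx.2.1
    refine hx.1 ?_
    have h2 := pow_orderOf_eq_one x
    rwa [hk, pow_succ, pow_mul, sq, h1, one_pow, one_mul] at h2

/-- `[t, G]` is an elementary abelian 2-group on which real elements of odd order act without
fixed points. -/
theorem elementary {t : G} (ht : Witness π t) (hex : ∃ x : G, RealOdd x)
    (hO : ∀ A : Subgroup G, A.Normal → (∀ a ∈ A, ∀ b ∈ A, Commute a b) →
      ∀ a ∈ A, Odd (orderOf a) → a = 1) :
    (∀ v ∈ commG t, v * v = 1) ∧ (∀ x : G, RealOdd x → ∀ v ∈ commG t, Commute v x → v = 1) ∧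
      ∀ v ∈ commG t, Commute v t := by
  obtain ⟨x₀, hx₀⟩ := hex
  have hN := commG_normal ht.ord
  have hdvd : Nat.card (commG t) ∣ sz x₀ := by
    have heq : cls x₀ = QuotientGroup.mk ⁻¹' ((QuotientGroup.mk : G → G ⧸ commG t) '' cls x₀) := by
      refine Set.Subset.antisymm (Set.subset_preimage_image _ _) ?_
      rintro w ⟨z, hz, e⟩
      have := D.translate hx₀ ht hO (z⁻¹ * w) (QuotientGroup.eq.1 e) z hz
      rwa [mul_inv_cancel_left] at this
    rw [← ncard_cls, ← Nat.card_coe_set_eq, heq,
      Nat.card_congr (QuotientGroup.preimageMkEquivSubgroupProdSet (commG t) _), Nat.card_prod]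
    exact dvd_mul_right _ _
  have htN : ∀ n ∈ commG t, Commute n t := by
    have h1 : (centralizer ({t} : Set G)).relIndex (commG t) = 1 := by
      refine Nat.eq_one_of_dvd_coprimes (D.coprime_sz hx₀ ht) ?_
        ((relIndex_dvd_card _ _).trans hdvd)
      exact CfsgLib.FgsC.relIndex_dvd_index _ _
    exact fun n hn => mem_cent_iff.1 (relIndex_eq_one.1 h1 hn)
  have hconj : ∀ n ∈ commG t, ∀ g : G, Commute n (g * t * g⁻¹) := by
    intro n hn g
    have := (htN _ (hN.conj_mem n hn g⁻¹)).map (MulAut.conj g)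
    simpa [mul_assoc] using this
  have hab : ∀ a ∈ commG t, ∀ b ∈ commG t, Commute a b := by
    intro a ha b hb
    induction hb using closure_induction with
    | mem b hb =>
      obtain ⟨g, rfl⟩ := hb
      exact (hconj a ha g).mul_right (htN a ha)
    | one => exact Commute.one_right a
    | mul b c _ _ ihb ihc => exact ihb.mul_right ihc
    | inv b _ ihb => exact ihb.inv_right
  have hsq : ∀ v ∈ commG t, v * v = 1 := by
    intro v hv
    induction hv using closure_induction with
    | mem v hv =>
      obtain ⟨g, rfl⟩ := hv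
      have h1 : Commute (g * t * g⁻¹) t := by
        have := (hconj _ (conjT_mem_commG t g) g).symm
        have h2 := (Commute.refl (g * t * g⁻¹)).inv_right.mul_right this
        rwa [inv_mul_cancel_left] at h2
      calc g * t * g⁻¹ * t * (g * t * g⁻¹ * t)
          = g * t * g⁻¹ * (t * (g * t * g⁻¹)) * t := by group
        _ = g * (t * t) * g⁻¹ * (t * t) := by rw [← h1.eq]; group
        _ = 1 := by rw [invol_mul_self ht.ord]; group
    | one => simp
    | mul a b ha hb iha ihb =>
      calc a * b * (a * b) = a * (b * a) * b := by group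
        _ = (a * a) * (b * b) := by rw [(hab b hb a ha).eq]; group
        _ = 1 := by rw [iha, ihb, one_mul]
    | inv a _ iha => rw [← mul_inv_rev, iha, inv_one]
  refine ⟨hsq, fun x hx v hv hc => ?_, htN⟩
  obtain ⟨g, hg⟩ := D.translate hx ht hO v hv x ⟨1, by group⟩
  obtain ⟨k, hk⟩ := hx.2.1
  have h1 : (x * v) ^ orderOf x = v := by
    rw [hc.symm.mul_pow, pow_orderOf_eq_one, one_mul, hk, pow_succ, pow_mul, sq, hsq v hv,
      one_pow, one_mul]
  rw [← hg, conj_pow, pow_orderOf_eq_one] at h1
  simpa using h1.symm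

end Split

end CfsgLib.FgsD.RealGraph
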