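import Cfsg.Agent.Lib.FgsD.RealGraph.Basic
import Cfsg.Agent.Lib.FgsB.OddInverted
import Cfsg.Agent.Lib.FgsC.DisconnectedClassGraph
import Cfsg.Agent.Lib.FgsC.Index
import Cfsg.Agent.Lib.FT.OddOrderTheorem

/-!
# Real class sizes that split into two sets of primes: first consequences
-/

set_option autoImplicit false
set_option linter.unusedSectionVars false

namespace CfsgLib.FgsD.RealGraph

open Subgroup CfsgLib.Involutions CfsgLib.FgsC.PrimeClasses CfsgLib.FgsC.DiscGraph

variable {G : Type*} [Group G]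

/-- Conjugate to the inverse. -/
abbrev IsReal (x : G) : Prop := IsConj x x⁻¹

theorem isReal_of_sq {x : G} (h : x * x = 1) : IsReal x := by
  show IsConj x x⁻¹
  rw [inv_eq_of_mul_eq_one_right h]

theorem RealOdd.isReal {x : G} (h : RealOdd x) : IsReal x := h.2.2

theorem IsReal.map {G' : Type*} [Group G'] (f : G →* G') {x : G} (h : IsReal x) :
    IsReal (f x) := by
  show IsConj (f x) (f x)⁻¹
  rw [← map_inv]
  exact f.map_isConj h

theorem mem_cent_iff {x g : G} : g ∈ centralizer ({x} : Set G) ↔ Commute g x :=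
  mem_centralizer_singleton_iff

variable [Finite G]

theorem sz_pos (x : G) : 0 < sz x := Nat.pos_of_ne_zero index_ne_zero_of_finite

theorem sz_map_dvd {G' : Type*} [Group G'] [Finite G'] {f : G →* G'} (hf : Function.Surjective f)
    (x : G) : sz (f x) ∣ sz x := by
  refine dvd_trans ?_ (index_map_dvd (H := centralizer ({x} : Set G)) hf)
  refine index_dvd_of_le ?_
  rintro _ ⟨g, hg, rfl⟩
  exact mem_cent_iff.2 ((mem_cent_iff.1 hg).map f)

theorem sz_sub_dvd (N : Subgroup G) [N.Normal] (x : N) : sz x ∣ sz (x : G) := by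
  have h : centralizer ({x} : Set N) = (centralizer ({(x : G)} : Set G)).subgroupOf N := by
    ext g
    simp only [mem_subgroupOf, mem_centralizer_singleton_iff, ← Subtype.coe_inj, coe_mul]
  show (centralizer ({x} : Set N)).index ∣ _
  rw [h]
  exact CfsgLib.FgsC.relIndex_dvd_index _ N

/-- A subgroup without real elements of odd order has a normal Sylow 2-subgroup. -/
theorem sylow_normal (H : Subgroup G) (h : ∀ x ∈ H, ¬ RealOdd x) (P : Sylow 2 H) :
    (P : Subgroup H).Normal := by
  by_contra hP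
  obtain ⟨x, u, r, hr, hr2, hx, hu⟩ := CfsgLib.FgsB.exists_odd_prime_inverted_of_not_normal P hP
  refine h x x.2 (realOdd_of_inverted (u := (u : G)) ?_ ?_ ?_)
  · intro e
    rw [show x = 1 from Subtype.ext e, orderOf_one] at hx
    exact hr.ne_one hx.symm
  · rw [orderOf_coe, hx]
    exact hr.odd_of_ne_two hr2
  · simpa only [← Subgroup.coe_inv, ← Subgroup.coe_mul] using congrArg Subtype.val hu

/-- A subgroup without real elements of odd order is solvable. -/
theorem isSolvable_of_no_realOdd (H : Subgroup G) (h : ∀ x ∈ H, ¬ RealOdd x) :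
    Group.IsSolvable H := by
  have : Fact (Nat.Prime 2) := ⟨Nat.prime_two⟩
  obtain ⟨P⟩ := (inferInstance : Nonempty (Sylow 2 H))
  have := sylow_normal H h P
  have hP : Group.IsSolvable (P : Subgroup H) := by
    have := P.2.isNilpotent
    infer_instance
  have hQ : Group.IsSolvable (H ⧸ (P : Subgroup H)) := CfsgLib.FT.isSolvable_of_odd (by
    rw [← index_eq_card, ← Nat.not_even_iff_odd, even_iff_two_dvd]
    exact P.not_dvd_index)
  exact (Group.isSolvable_iff_subgroup_quotient (P : Subgroup H)).2 ⟨hP, hQ⟩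

/-- A real element with a class of odd size squares to the identity. -/
theorem sq_eq_one_of_odd {x : G} (hx : IsReal x) (ho : Odd (sz x)) : x * x = 1 := by
  classical
  have : Fact (Nat.Prime 2) := ⟨Nat.prime_two⟩
  have hmem : ∀ z : cls x, (z : G)⁻¹ ∈ cls x := by
    rintro ⟨_, g, rfl⟩
    obtain ⟨c, hc⟩ := isConj_iff.1 hx
    refine ⟨g * c, ?_⟩
    calc g * c * x * (g * c)⁻¹ = g * (c * x * c⁻¹) * g⁻¹ := by group
      _ = (g * x * g⁻¹)⁻¹ := by rw [hc]; group
  let σ : Equiv.Perm (cls x) :=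
    ⟨fun z => ⟨(z : G)⁻¹, hmem z⟩, fun z => ⟨(z : G)⁻¹, hmem z⟩,
      fun z => Subtype.ext (inv_inv _), fun z => Subtype.ext (inv_inv _)⟩
  have := Fintype.ofFinite (cls x)
  have hodd : ¬ 2 ∣ Fintype.card (cls x) := by
    rw [← Nat.card_eq_fintype_card, Nat.card_coe_set_eq, ncard_cls, ← even_iff_two_dvd,
      Nat.not_even_iff_odd]
    exact ho
  obtain ⟨⟨_, g, rfl⟩, hz⟩ := Equiv.Perm.exists_fixed_point_of_prime (p := 2) (n := 1) hodd
    (σ := σ) (Equiv.ext fun z => by simp [σ, sq])
  have h1 : (g * x * g⁻¹)⁻¹ = g * x * g⁻¹ := congrArg Subtype.val hz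
  have h2 : g * (x * x) * g⁻¹ = 1 := by
    calc g * (x * x) * g⁻¹ = (g * x * g⁻¹) * (g * x * g⁻¹) := by group
      _ = (g * x * g⁻¹)⁻¹ * (g * x * g⁻¹) := by rw [h1]
      _ = 1 := inv_mul_cancel _
  exact conj_eq_one_iff.1 h2

/-- A real element of odd order has a class of even size. -/
theorem two_dvd_sz {x : G} (hx : RealOdd x) : 2 ∣ sz x := by
  by_contra h
  rw [← even_iff_two_dvd, Nat.not_even_iff_odd] at h
  obtain ⟨k, hk⟩ := hx.2.1
  refine hx.1 ?_
  have h2 := pow_orderOf_eq_one x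
  rwa [hk, pow_succ, pow_mul, sq, sq_eq_one_of_odd hx.isReal h, one_pow, one_mul] at h2

/-- The class sizes of real elements are `π`-numbers or `π'`-numbers, and `2 ∉ π`. -/
structure Split (G : Type*) [Group G] [Finite G] (π : Set ℕ) : Prop where
  two : 2 ∉ π
  pure : ∀ x : G, IsReal x → InS π (sz x) ∨ OutS π (sz x)

/-- An involution with a class whose size is a nontrivial `π`-number. -/
structure Witness {G : Type*} [Group G] [Finite G] (π : Set ℕ) (t : G) : Prop where
  ord : orderOf t = 2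
  ins : InS π (sz t)
  ne_one : sz t ≠ 1

namespace Split

variable {π : Set ℕ} (D : Split G π)
include D

theorem odd_of_inS {n : ℕ} (h : InS π n) : Odd n := by
  rw [← Nat.not_even_iff_odd, even_iff_two_dvd]
  exact fun h2 => D.two (h 2 Nat.prime_two h2)

theorem outS_of_even {x : G} (hx : IsReal x) (h : 2 ∣ sz x) : OutS π (sz x) :=
  (D.pure x hx).resolve_left fun hi => D.two (hi 2 Nat.prime_two h)

theorem coprime_sz {x t : G} (hx : RealOdd x) (ht : Witness π t) : (sz t).Coprime (sz x) :=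
  coprime_in_out ht.ins (D.outS_of_even hx.isReal (two_dvd_sz hx))

theorem exists_mul {x t : G} (hx : RealOdd x) (ht : Witness π t) (g : G) :
    ∃ a b : G, Commute a t ∧ Commute b x ∧ a * b = g := by
  obtain ⟨a, ha, b, hb, e⟩ := exists_mul_of_coprime (H := centralizer ({t} : Set G))
    (K := centralizer ({x} : Set G)) (D.coprime_sz hx ht) g
  exact ⟨a, b, mem_cent_iff.1 ha, mem_cent_iff.1 hb, e⟩

theorem exists_inverter {x t : G} (hx : RealOdd x) (ht : Witness π t) :
    ∃ c : G, Commute c t ∧ c * x * c⁻¹ = x⁻¹ := by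
  obtain ⟨g, hg⟩ := isConj_iff.1 hx.2.2
  obtain ⟨a, b, ha, hb, rfl⟩ := D.exists_mul hx ht g
  refine ⟨a, ha, ?_⟩
  rw [← hg]
  calc a * x * a⁻¹ = a * (x * b) * b⁻¹ * a⁻¹ := by group
    _ = a * (b * x) * b⁻¹ * a⁻¹ := by rw [hb.eq]
    _ = a * b * x * (a * b)⁻¹ := by group

theorem isReal_mul {x t : G} (hx : RealOdd x) (ht : Witness π t) : IsReal (x * t) := by
  obtain ⟨c, hc, hcx⟩ := D.exists_inverter hx ht
  refine isConj_iff.2 ⟨t * c, ?_⟩
  rw [mul_inv_rev x t, invol_inv ht.ord]
  calc t * c * (x * t) * (t * c)⁻¹ = t * (c * x * c⁻¹) * (c * t * c⁻¹) * t⁻¹ := by group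
    _ = t * x⁻¹ := by rw [hcx, hc.eq]; group

theorem not_commute {x t : G} (hx : RealOdd x) (ht : Witness π t) : ¬ Commute t x := by
  intro hc
  have h1 : ∀ y ∈ zpowers (x * t), Commute y (x * t) := by
    rintro _ ⟨k, rfl⟩; exact (Commute.refl _).zpow_left k
  -- `x` and `t` are powers of `x * t`
  have hle : centralizer ({x * t} : Set G) ≤
      centralizer ({x} : Set G) ⊓ centralizer ({t} : Set G) := by
    intro g hg
    rw [mem_cent_iff] at hg
    obtain ⟨a, ha⟩ := hx.2.1
    have hxp : (x * t) ^ (orderOf x) = t := by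
      rw [hc.symm.mul_pow, pow_orderOf_eq_one, one_mul, ha, pow_succ, pow_mul, sq,
        invol_mul_self ht.ord, one_pow, one_mul]
    have hgt : Commute g t := hxp ▸ hg.pow_right _
    refine mem_inf.2 ⟨mem_cent_iff.2 ?_, mem_cent_iff.2 hgt⟩
    have := hg.mul_right hgt.inv_right
    rwa [mul_inv_cancel_right] at this
  have hd := index_dvd_of_le hle
  have h2 : 2 ∣ sz (x * t) := (two_dvd_sz hx).trans ((index_dvd_of_le inf_le_left).trans hd)
  obtain ⟨q, hq, hqt⟩ := Nat.exists_prime_and_dvd ht.ne_one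
  exact D.outS_of_even (D.isReal_mul hx ht) h2 q hq
    (hqt.trans ((index_dvd_of_le inf_le_right).trans hd)) (ht.ins q hq hqt)

/-- The centraliser of a witness has a normal Sylow 2-subgroup. -/
theorem sylow_cent_normal {t : G} (ht : Witness π t)
    (P : Sylow 2 (centralizer ({t} : Set G))) :
    (P : Subgroup (centralizer ({t} : Set G))).Normal :=
  sylow_normal _ (fun _ hx hr => D.not_commute hr ht (mem_cent_iff.1 hx).symm) P

theorem isSolvable_cent {t : G} (ht : Witness π t) :
    Group.IsSolvable (centralizer ({t} : Set G)) :=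
  isSolvable_of_no_realOdd _ fun _ hx hr => D.not_commute hr ht (mem_cent_iff.1 hx).symm

theorem quotient (N : Subgroup G) [N.Normal]
    (hlift : ∀ xb : G ⧸ N, IsReal xb → ∃ x : G, IsReal x ∧ QuotientGroup.mk' N x = xb) :
    Split (G ⧸ N) π := by
  refine ⟨D.two, fun xb hxb => ?_⟩
  obtain ⟨x, hx, rfl⟩ := hlift xb hxb
  have hd := sz_map_dvd (QuotientGroup.mk'_surjective N) x
  exact (D.pure x hx).imp (fun h q hq hqd => h q hq (hqd.trans hd))
    fun h q hq hqd => h q hq (hqd.trans hd)

theorem subgroup (N : Subgroup G) [N.Normal] : Split N π := by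
  refine ⟨D.two, fun x hx => ?_⟩
  exact (D.pure x (IsReal.map N.subtype hx)).imp
    (fun h q hq hqd => h q hq (hqd.trans (sz_sub_dvd N x)))
    fun h q hq hqd => h q hq (hqd.trans (sz_sub_dvd N x))

end Split

end CfsgLib.FgsD.RealGraph
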