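import Cfsg.Agent.Lib.FgsD.RealGraph.Basic
import Cfsg.Agent.Lib.Coprime.SchurZassenhaus
import Cfsg.Agent.Lib.FT.OddOrderTheorem

/-!
# Real elements of odd order fixed-point-free on a 2-group: the radical

If the real elements of odd order of a perfect group act without fixed points on an irreducible
module in characteristic two, the radical of the faithful quotient is central, and no element
inverts an elementary abelian group of rank two modulo the radical.
-/

set_option autoImplicit false
set_option linter.unusedSectionVars false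

open scoped Pointwise

namespace CfsgLib.FgsD.RealGraph

universe u v

open Subgroup CfsgLib.Involutions

variable {G : Type u} [Group G]

/-! ### Lifting real elements -/

/-- A non-trivial soluble normal subgroup contains a non-trivial elementary abelian normal one. -/
theorem exists_elementary_le [Finite G] {N : Subgroup G} [N.Normal] (hs : Group.IsSolvable N)
    (hne : N ≠ ⊥) : ∃ (p : ℕ) (A : Subgroup G), p.Prime ∧ A.Normal ∧ A ≠ ⊥ ∧ A ≤ N ∧
      (∀ a ∈ A, ∀ b ∈ A, Commute a b) ∧ ∀ a ∈ A, a ^ p = 1 := by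
  classical
  obtain ⟨n, hn⟩ := (Group.isSolvable_def N).mp hs
  have : Nontrivial N := (nontrivial_iff_ne_bot N).2 hne
  have hex : ∃ n, derivedSeries N n = ⊥ := ⟨n, hn⟩
  have hm0 : Nat.find hex ≠ 0 := by
    intro h0
    have := Nat.find_spec hex
    rw [h0, derivedSeries_zero] at this
    exact top_ne_bot this
  obtain ⟨k, hk⟩ := Nat.exists_eq_succ_of_ne_zero hm0
  set D := derivedSeries N k with hD
  have hDne : D ≠ ⊥ := Nat.find_min hex (by omega)
  have hDD : ⁅D, D⁆ = ⊥ := by
    have := Nat.find_spec hex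
    rw [hk, derivedSeries_succ] at this
    exact this
  haveI : D.Characteristic := derivedSeries_characteristic N k
  set B := D.map N.subtype with hB
  haveI hBn : B.Normal := inferInstance
  have hcomm : ∀ a ∈ B, ∀ b ∈ B, Commute a b := by
    rintro _ ⟨a, ha, rfl⟩ _ ⟨b, hb, rfl⟩
    have : a * b = b * a := commutatorElement_eq_one_iff_mul_comm.mp
      (by simpa [hDD] using commutator_mem_commutator ha hb)
    exact congrArg N.subtype this
  have hBne : B ≠ ⊥ := fun h =>
    hDne ((map_eq_bot_iff_of_injective _ N.subtype_injective).1 h)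
  obtain ⟨p, hp, hpd⟩ := Nat.exists_prime_and_dvd (fun h => hBne (card_eq_one.mp h))
  haveI := Fact.mk hp
  let A : Subgroup G :=
    { carrier := {a | a ∈ B ∧ a ^ p = 1}
      one_mem' := ⟨one_mem _, one_pow p⟩
      mul_mem' := fun {a b} ha hb => ⟨mul_mem ha.1 hb.1, by
        rw [(hcomm a ha.1 b hb.1).mul_pow, ha.2, hb.2, one_mul]⟩
      inv_mem' := fun {a} ha => ⟨inv_mem ha.1, by rw [inv_pow, ha.2, inv_one]⟩ }
  refine ⟨p, A, hp, ⟨fun a ha g => ⟨hBn.conj_mem a ha.1 g, ?_⟩⟩, ?_,
    fun a ha => map_subtype_le _ ha.1, fun a ha b hb => hcomm a ha.1 b hb.1, fun a ha => ha.2⟩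
  · rw [conj_pow, ha.2]; group
  · obtain ⟨x, hx⟩ := exists_prime_orderOf_dvd_card' p hpd
    intro hbot
    have hxA : (x : G) ∈ A := ⟨x.2, by
      rw [← orderOf_dvd_iff_pow_eq_one, orderOf_coe, hx]⟩
    rw [hbot, mem_bot] at hxA
    rw [← orderOf_coe, hxA, orderOf_one] at hx
    exact hp.one_lt.ne hx

/-- A real element of a quotient by an elementary abelian group lifts. -/
theorem exists_realOdd_lift_step [Finite G] (A : Subgroup G) [A.Normal] {p : ℕ} (hp : p.Prime)
    (hexp : ∀ a ∈ A, a ^ p = 1) (hs : Group.IsSolvable A) {xb : G ⧸ A} (hx : RealOdd xb) :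
    ∃ x : G, RealOdd x ∧ QuotientGroup.mk' A x = xb := by
  classical
  haveI := Fact.mk hp
  set π := QuotientGroup.mk' A with hπ
  have hmem : ∀ {z w : G}, π z = π w → z⁻¹ * w ∈ A := fun h => QuotientGroup.eq.1 h
  obtain ⟨tb, htb⟩ := isConj_iff.1 hx.2.2
  obtain ⟨g₀, rfl⟩ := QuotientGroup.mk'_surjective A tb
  obtain ⟨k, m, hm, hkm⟩ := Nat.exists_eq_two_pow_mul_odd (orderOf_pos g₀).ne'
  set g := g₀ ^ m with hg
  have hgord : g ^ 2 ^ k = 1 := by
    rw [hg, ← pow_mul, mul_comm, ← hkm, pow_orderOf_eq_one]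
  have hginv : π g * xb * (π g)⁻¹ = xb⁻¹ := by
    obtain ⟨l, rfl⟩ := hm
    rw [hg, map_pow]
    exact CfsgLib.RealElt.inverts_pow_odd htb l
  obtain ⟨y, hy, hyo⟩ : ∃ y : G, π y = xb ∧ Odd (orderOf y) := by
    obtain ⟨y₀, rfl⟩ := QuotientGroup.mk'_surjective A xb
    obtain ⟨s, r, hr, hsr⟩ := Nat.exists_eq_two_pow_mul_odd (orderOf_pos y₀).ne'
    have hcop : Nat.Coprime (2 ^ s) (orderOf (π y₀)) := hx.2.1.coprime_two_left.pow_left s
    obtain ⟨j, hj⟩ := exists_pow_eq_self_of_coprime hcop
    refine ⟨(y₀ ^ 2 ^ s) ^ j, ?_, ?_⟩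
    · rw [map_pow, map_pow]; exact hj
    · refine Odd.of_dvd_nat hr ((orderOf_pow_dvd j).trans (orderOf_dvd_of_pow_eq_one ?_))
      rw [← pow_mul, ← hsr, pow_orderOf_eq_one]
  have hA : IsPGroup p A := fun a => ⟨1, by rw [pow_one]; exact Subtype.ext (hexp a a.2)⟩
  obtain ⟨e, he⟩ := IsPGroup.iff_card.1 hA
  rcases hp.eq_two_or_odd' with rfl | hodd
  · -- a 2-group: conjugacy of the complements
    set y' := (g * y * g⁻¹)⁻¹ with hy'
    have hyy : π y' = π y := by
      rw [hy', map_inv, map_mul, map_mul, map_inv, hy, hginv, inv_inv]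
    have hord : orderOf y' = orderOf y := by rw [hy', orderOf_inv, orderOf_conj_eq]
    have hcop : (Nat.card A).Coprime (Nat.card (zpowers y)) := by
      rw [he, Nat.card_zpowers]; exact hyo.coprime_two_left.pow_left e
    have hn : ∀ H : Subgroup G, H ≤ normalizer (A : Set G) := fun H => by
      rw [normalizer_eq_top]; exact le_top
    have hle : zpowers y' ≤ A ⊔ zpowers y := zpowers_le.2 (by
      have h1 : y * (y⁻¹ * y') * y⁻¹ * y ∈ A ⊔ zpowers y := mul_mem_sup
        (Normal.conj_mem inferInstance _ (hmem hyy.symm) y) (mem_zpowers y)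
      convert h1 using 1
      group)
    obtain ⟨a, ha, hc⟩ := CfsgLib.Coprime.sz_conj_rel (hn _) (hn _) hcop
      (by rw [Nat.card_zpowers, Nat.card_zpowers, hord]) hle (Or.inl hs)
    have hmemK : a * y * a⁻¹ ∈ zpowers y' := by
      rw [← hc]
      exact CfsgLib.Coprime.mem_conj_smul.2 (by simp [mul_assoc])
    have hz : y'⁻¹ * (a * y * a⁻¹) = 1 := by
      set z := y'⁻¹ * (a * y * a⁻¹) with hz
      have hπa : π a = 1 := (QuotientGroup.eq_one_iff _).2 ha
      have h1 : z ∈ A := hmem (by
        rw [hyy, map_mul, map_mul, map_inv, hπa, inv_one, one_mul, mul_one])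
      have h2 : z ∈ zpowers y' := mul_mem (inv_mem (mem_zpowers _)) hmemK
      have h3 : z ∈ A ⊓ zpowers y' := ⟨h1, h2⟩
      rw [CfsgLib.Coprime.inf_eq_bot_of_coprime (by
        rwa [Nat.card_zpowers y', hord, ← Nat.card_zpowers]), mem_bot] at h3
      exact h3
    have hgy : g * y * g⁻¹ = a * y⁻¹ * a⁻¹ := by
      rw [inv_mul_eq_one, hy', inv_eq_iff_eq_inv] at hz
      rw [hz]; group
    refine ⟨y, realOdd_of_inverted (fun h => hx.1 (by rw [← hy, h, map_one])) hyo
      (u := a⁻¹ * g) ?_, hy⟩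
    calc a⁻¹ * g * y * (a⁻¹ * g)⁻¹ = a⁻¹ * (g * y * g⁻¹) * a := by group
      _ = y⁻¹ := by rw [hgy]; group
  · -- odd order: a fixed point of a 2-group on the coset
    let X := {w : G // π w = xb}
    have hX : Nat.card X = Nat.card A := Nat.card_congr
      { toFun := fun w => ⟨y⁻¹ * w.1, hmem (hy.trans w.2.symm)⟩
        invFun := fun a => ⟨y * a.1, by
          rw [map_mul, show π a.1 = 1 from (QuotientGroup.eq_one_iff _).2 a.2, mul_one, hy]⟩
        left_inv := fun w => Subtype.ext (mul_inv_cancel_left _ _)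
        right_inv := fun a => Subtype.ext (inv_mul_cancel_left _ _) }
    let θ : Equiv.Perm X :=
      { toFun := fun w => ⟨(g * w.1 * g⁻¹)⁻¹, by
          rw [map_inv, map_mul, map_mul, map_inv, w.2, hginv, inv_inv]⟩
        invFun := fun w => ⟨g⁻¹ * w.1⁻¹ * g, by
          rw [map_mul, map_mul, map_inv, map_inv, w.2]
          rw [← hginv]; group⟩
        left_inv := fun w => Subtype.ext (show g⁻¹ * (g * w.1 * g⁻¹)⁻¹⁻¹ * g = w.1 by group)
        right_inv := fun w => Subtype.ext (show (g * (g⁻¹ * w.1⁻¹ * g) * g⁻¹)⁻¹ = w.1 by group) }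
    have hθ : ∀ (j : ℕ) (w : X), ((θ ^ (2 * j)) w).1 = g ^ (2 * j) * w.1 * (g ^ (2 * j))⁻¹ := by
      intro j
      induction j with
      | zero => intro w; simp
      | succ j ih =>
        intro w
        have e2 : 2 * (j + 1) = 1 + (1 + 2 * j) := by ring
        rw [e2, pow_add, pow_add θ, pow_one, Equiv.Perm.mul_apply, Equiv.Perm.mul_apply]
        show (g * (g * ((θ ^ (2 * j)) w).1 * g⁻¹)⁻¹ * g⁻¹)⁻¹ = _
        rw [ih, pow_add, pow_add g, pow_one]
        group
    have hθ1 : θ ^ 2 ^ (k + 1) = 1 := Equiv.ext fun w => Subtype.ext (by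
      rw [pow_succ', hθ, mul_comm 2, pow_mul, hgord]
      simp)
    haveI : Fact (Nat.Prime 2) := ⟨Nat.prime_two⟩
    haveI : Fintype X := Fintype.ofFinite X
    obtain ⟨w, hw⟩ := Equiv.Perm.exists_fixed_point_of_prime (p := 2) (by
      rw [← Nat.card_eq_fintype_card, hX, he, ← even_iff_two_dvd, Nat.not_even_iff_odd]
      exact hodd.pow) hθ1
    have hw' : g * w.1 * g⁻¹ = w.1⁻¹ := inv_eq_iff_eq_inv.1 (congrArg Subtype.val hw)
    refine ⟨w.1, realOdd_of_inverted (fun h => hx.1 (by rw [← w.2, h, map_one])) ?_ hw', w.2⟩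
    refine Odd.of_dvd_nat (hx.2.1.mul hodd) (orderOf_dvd_of_pow_eq_one ?_)
    rw [pow_mul]
    refine hexp _ ((QuotientGroup.eq_one_iff _).1 ?_)
    show π (w.1 ^ orderOf xb) = 1
    rw [map_pow, w.2, pow_orderOf_eq_one]

/-- Real elements lift along a surjection with soluble kernel. -/
theorem exists_realOdd_lift_hom (n : ℕ) : ∀ {G : Type u} {H : Type v} [Group G] [Finite G]
    [Group H] (f : G →* H), Function.Surjective f → Nat.card G ≤ n → Group.IsSolvable f.ker →
    ∀ {xb : H}, RealOdd xb → ∃ x : G, RealOdd x ∧ f x = xb := by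
  induction n with
  | zero =>
    intro G H _ _ _ f _ hn
    exact absurd hn (by have : 0 < Nat.card G := Nat.card_pos; omega)
  | succ n ih =>
    intro G H _ _ _ f hf hn hs xb hx
    by_cases hk : f.ker = ⊥
    · have hinj := (MonoidHom.ker_eq_bot_iff f).1 hk
      obtain ⟨x, rfl⟩ := hf xb
      refine ⟨x, ⟨fun h => hx.1 (by rw [h, map_one]), by
        rw [← orderOf_injective f hinj]; exact hx.2.1, ?_⟩, rfl⟩
      obtain ⟨c, hc⟩ := isConj_iff.1 hx.2.2
      obtain ⟨g, rfl⟩ := hf c
      exact isConj_iff.2 ⟨g, hinj (by rw [map_mul, map_mul, map_inv, map_inv, hc])⟩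
    · obtain ⟨p, A, hp, hAn, hAne, hAk, hAc, hAexp⟩ := exists_elementary_le hs hk
      haveI := hAn
      have hlt : Nat.card (G ⧸ A) ≤ n := by
        have := CfsgLib.Coprime.card_quotient_lt hAne
        omega
      let fb : G ⧸ A →* H := QuotientGroup.lift A f hAk
      have hfb : Function.Surjective fb := fun z => by
        obtain ⟨x, rfl⟩ := hf z
        exact ⟨QuotientGroup.mk' A x, rfl⟩
      have hsb : Group.IsSolvable fb.ker := by
        have : fb.ker = f.ker.map (QuotientGroup.mk' A) := QuotientGroup.ker_lift A f hAk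
        rw [this]
        exact CfsgLib.Coprime.isSolvable_map _ hs
      obtain ⟨xa, hxa, rfl⟩ := ih fb hfb hlt hsb hx
      obtain ⟨x, hx', rfl⟩ := exists_realOdd_lift_step A hp hAexp
        (CfsgLib.Coprime.isSolvable_of_le hAk hs) hxa
      exact ⟨x, hx', rfl⟩

variable [Finite G]

/-- Real elements of odd order lift through a solvable normal subgroup. -/
theorem exists_realOdd_lift (N : Subgroup G) [N.Normal] (hN : Group.IsSolvable N) {xb : G ⧸ N}
    (hx : RealOdd xb) : ∃ x : G, RealOdd x ∧ QuotientGroup.mk' N x = xb :=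
  exists_realOdd_lift_hom _ (QuotientGroup.mk' N) (QuotientGroup.mk'_surjective N) le_rfl
    (by rwa [QuotientGroup.ker_mk']) hx

/-! ### Linear algebra -/

/-- An involution of determinant one with at most one inverted line is trivial. -/
theorem eq_one_of_sq_det {K W : Type*} [Field K] [AddCommGroup W] [Module K W]
    [FiniteDimensional K W] (h2 : (2 : K) ≠ 0) {T : Module.End K W} (hT : T * T = 1)
    (hd : LinearMap.det T = 1)
    (hdep : ∀ e e' : W, T e = -e → T e' = -e' → e ≠ 0 → e' ∈ K ∙ e) : T = 1 := by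
  by_contra hne
  obtain ⟨v, hv⟩ : ∃ v, T v ≠ v := by
    by_contra h
    exact hne (LinearMap.ext fun v => by simpa using not_exists.1 h v)
  have hneg : ∀ w, T (w - T w) = -(w - T w) := fun w => by
    have h1 : T (T w) = w := by
      rw [← Module.End.mul_apply, hT]; rfl
    rw [map_sub, h1, neg_sub]
  set e := v - T v with he
  have he0 : e ≠ 0 := sub_ne_zero.2 (Ne.symm hv)
  set S := K ∙ e with hS
  have hTe : T e = -e := hneg v
  have hinv : S ≤ S.comap T := by
    rw [hS, Submodule.span_singleton_le_iff_mem, Submodule.mem_comap, hTe]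
    exact neg_mem (Submodule.mem_span_singleton_self e)
  have h1 := LinearMap.det_eq_det_mul_det S T hinv
  have hr : LinearMap.restrict T (p := S) (q := S) (fun x hx => hinv hx) = (-1 : K) • LinearMap.id := by
    refine LinearMap.ext fun w => Subtype.ext ?_
    obtain ⟨c, hc⟩ := Submodule.mem_span_singleton.1 w.2
    show T (w : W) = (-1 : K) • (w : W)
    rw [← hc, map_smul, hTe, neg_one_smul, smul_neg]
  have hq : S.mapQ S T hinv = LinearMap.id := by
    refine Submodule.linearMap_qext _ (LinearMap.ext fun w => ?_)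
    show Submodule.Quotient.mk (T w) = Submodule.Quotient.mk w
    rw [Submodule.Quotient.eq, ← neg_sub]
    exact neg_mem (hdep e _ hTe (hneg w) he0)
  rw [hd, hr, hq, LinearMap.det_smul, LinearMap.det_id, LinearMap.det_id, finrank_span_singleton he0,
    pow_one, mul_one, mul_one] at h1
  exact h2 (by linear_combination h1)

/-- A perfect group has no non-trivial homomorphism to an abelian group. -/
theorem hom_eq_one_of_perfect {H A : Type*} [Group H] [CommGroup A] (hp : commutator H = ⊤)
    (f : H →* A) (h : H) : f h = 1 :=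
  Abelianization.commutator_subset_ker f (hp ▸ mem_top h)

/-! ### Sums over lines -/

section Lines

variable {S : Type u} [CommGroup S]

theorem smul_pow_prod_eq_one {p : ℕ} {z : MulAut S} (hz : z ^ p = 1)
    (hf : ∀ v : S, z v = v → v = 1) (v : S) : ∏ i ∈ Finset.range p, (z ^ i) v = 1 := by
  refine hf _ ?_
  rw [map_prod]
  simp only [← MulAut.mul_apply, ← pow_succ']
  have h1 := Finset.prod_range_succ (fun i => (z ^ i) v) p
  have h2 := Finset.prod_range_succ' (fun i => (z ^ i) v) p
  simp only [pow_zero, hz] at h1 h2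
  exact mul_right_cancel (h2.symm.trans h1)

/-- If all lines of a plane but one act without fixed points, the remaining one acts trivially. -/
theorem eq_one_of_lines (hsq : ∀ v : S, v * v = 1) {p : ℕ} (hp : p.Prime) (hp2 : p ≠ 2)
    {x y : MulAut S} (hx : x ^ p = 1) (hy : y ^ p = 1) (hxy : Commute x y)
    (hf : ∀ i < p, ∀ v : S, (x * y ^ i) v = v → v = 1) : y = 1 := by
  classical
  refine MulEquiv.ext fun v => ?_
  obtain ⟨q, hq⟩ := hp.odd_of_ne_two hp2
  have hvp : v ^ p = v := by
    rw [hq, pow_succ, pow_mul, pow_two, hsq, one_pow, one_mul]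
  set N := ∏ i ∈ Finset.range p, (y ^ i) v with hN
  have hfx : ∀ v : S, x v = v → v = 1 := fun v h => hf 0 hp.pos v (by simpa using h)
  have hyN : y N = N := by
    rw [hN, map_prod]
    simp only [← MulAut.mul_apply, ← pow_succ']
    have h1 := Finset.prod_range_succ (fun i => (y ^ i) v) p
    have h2 := Finset.prod_range_succ' (fun i => (y ^ i) v) p
    rw [h2, hy, pow_zero] at h1
    exact mul_right_cancel h1
  have hT : ∏ j ∈ Finset.range p, ∏ i ∈ Finset.range p, ((x * y ^ i) ^ j) v = 1 := by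
    rw [Finset.prod_comm]
    refine Finset.prod_eq_one fun i hi => smul_pow_prod_eq_one ?_
      (hf i (Finset.mem_range.1 hi)) v
    rw [(hxy.pow_right i).mul_pow, hx, one_mul, ← pow_mul, mul_comm, pow_mul, hy, one_pow]
  have hterm : ∀ j ∈ (Finset.range p).erase 0,
      ∏ i ∈ Finset.range p, ((x * y ^ i) ^ j) v = (x ^ j) N := by
    intro j hj
    obtain ⟨hj0, hjp⟩ := Finset.mem_erase.1 hj
    rw [Finset.mem_range] at hjp
    rw [hN, map_prod]
    have hinj : Set.InjOn (fun i => i * j % p) (Finset.range p) := by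
      intro a ha b hb hab
      rw [Finset.coe_range, Set.mem_Iio] at ha hb
      have hcop : Nat.gcd p j = 1 := hp.coprime_iff_not_dvd.2
        fun hd => absurd (Nat.le_of_dvd (Nat.pos_of_ne_zero hj0) hd) (by omega)
      exact (Nat.ModEq.cancel_right_of_coprime hcop hab).eq_of_lt_of_lt ha hb
    refine Finset.prod_nbij (fun i => i * j % p)
      (fun i _ => Finset.mem_range.2 (Nat.mod_lt _ hp.pos)) hinj
      (Finset.surjOn_of_injOn_of_card_le _
        (fun i _ => Finset.mem_range.2 (Nat.mod_lt _ hp.pos)) hinj le_rfl) ?_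
    intro i _
    rw [(hxy.pow_right i).mul_pow, ← pow_mul, MulAut.mul_apply,
      ← pow_eq_pow_mod (i * j) hy]
  have h0 : 0 ∈ Finset.range p := Finset.mem_range.2 hp.pos
  rw [← Finset.mul_prod_erase _ _ h0, Finset.prod_congr rfl hterm] at hT
  simp only [pow_zero, MulAut.one_apply, Finset.prod_const, Finset.card_range, hvp] at hT
  have hNx := smul_pow_prod_eq_one hx hfx N
  rw [← Finset.mul_prod_erase _ _ h0, pow_zero, MulAut.one_apply] at hNx
  have hvN : v = N := mul_right_cancel (hT.trans hNx.symm)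
  rw [MulAut.one_apply, hvN, hyN]

end Lines

/-! ### The faithful action -/

/-- A faithful irreducible action of a perfect group in characteristic two in which the real
elements of odd order have no fixed points. -/
structure Act {H : Type u} [Group H] {S : Type u} [CommGroup S] (φ : H →* MulAut S) : Prop where
  sq : ∀ v : S, v * v = 1
  nontrivial : Nontrivial S
  inj : Function.Injective φ
  perfect : commutator H = ⊤
  irr : ∀ K : Subgroup H, K.Normal → ∀ v : S, v ≠ 1 → (∀ k ∈ K, φ k v = v) → K = ⊥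
  fpf : ∀ x : H, RealOdd x → ∀ v : S, φ x v = v → v = 1

namespace Act

variable {H : Type u} [Group H] [Finite H] {S : Type u} [CommGroup S] [Finite S]
  {φ : H →* MulAut S} (hA : Act φ)
include hA

theorem eq_one_of_lines {p : ℕ} (hp : p.Prime) (hp2 : p ≠ 2) {x y : H} (hx : x ^ p = 1)
    (hy : y ^ p = 1) (hxy : Commute x y) (hf : ∀ i < p, RealOdd (x * y ^ i)) : y = 1 := by
  refine hA.inj ?_
  rw [map_one]
  refine RealGraph.eq_one_of_lines hA.sq hp hp2 (x := φ x) (by rw [← map_pow, hx, map_one])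
    (by rw [← map_pow, hy, map_one]) (hxy.map φ) fun i hi v hv => hA.fpf _ (hf i hi) v ?_
  rwa [map_mul, map_pow]

theorem eq_bot_of_two {K : Subgroup H} [K.Normal] (hK : IsPGroup 2 K) : K = ⊥ := by
  haveI : Fact (Nat.Prime 2) := ⟨Nat.prime_two⟩
  haveI := hA.nontrivial
  letI : MulAction K S := MulAction.compHom S (φ.comp K.subtype)
  obtain ⟨a, ha⟩ := exists_ne (1 : S)
  have hdvd : 2 ∣ Nat.card S := by
    rw [← orderOf_eq_prime (p := 2) (by rw [pow_two, hA.sq]) ha]
    exact orderOf_dvd_natCard a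
  obtain ⟨v, hv, hv1⟩ := hK.exists_fixed_point_of_prime_dvd_card_of_fixed_point S hdvd
    (a := (1 : S)) (fun k => map_one (φ (k : H)))
  exact hA.irr K inferInstance v (Ne.symm hv1) fun k hk => hv ⟨k, hk⟩

theorem center_odd : Odd (Nat.card (center H)) := by
  rw [← Nat.not_even_iff_odd, even_iff_two_dvd]
  intro h
  haveI : Fact (Nat.Prime 2) := ⟨Nat.prime_two⟩
  obtain ⟨z, hz⟩ := exists_prime_orderOf_dvd_card' 2 h
  rw [← orderOf_coe] at hz
  haveI : (zpowers (z : H)).Normal := ⟨fun n hn g => by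
    have hn' : n ∈ center H := zpowers_le.2 z.2 hn
    rwa [mem_center_iff.1 hn' g, mul_inv_cancel_right]⟩
  have := hA.eq_bot_of_two (K := zpowers (z : H))
    (IsPGroup.of_card (n := 1) (by rw [Nat.card_zpowers, hz, pow_one]))
  rw [zpowers_eq_bot] at this
  simp [this] at hz

omit hA in
/-- An element inverted modulo an odd central subgroup has an inverted representative. -/
theorem exists_inverted {Z : Subgroup H} (hZ : Z ≤ center H) (hodd : Odd (Nat.card Z))
    {p : ℕ} {g a : H} (hap : a ^ p ∈ Z) (hga : g * a * g⁻¹ * a ∈ Z) :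
    ∃ w ∈ Z, g * (a * w) * g⁻¹ = (a * w)⁻¹ ∧ (a * w) ^ p = 1 := by
  have hodd' : ∀ z ∈ Z, Odd (orderOf z) := fun z hz => hodd.of_dvd_nat (orderOf_dvd_natCard Z hz)
  set z := g * a * g⁻¹ * a with hz
  obtain ⟨k, hk⟩ := exists_zpow_sq_eq (hodd' z hga)
  set w := (z ^ k)⁻¹ with hw
  have hwZ : w ∈ Z := inv_mem (zpow_mem hga k)
  have hwc : ∀ t : H, t * w = w * t := mem_center_iff.1 (hZ hwZ)
  have hzc : ∀ t : H, t * z = z * t := mem_center_iff.1 (hZ hga)
  have hzw : z * w = w⁻¹ := by
    rw [eq_inv_iff_mul_eq_one, mul_assoc, ← pow_two, hw, inv_pow, hk, mul_inv_cancel]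
  have hinv : g * (a * w) * g⁻¹ = (a * w)⁻¹ := by
    calc g * (a * w) * g⁻¹ = g * a * (w * g⁻¹) := by group
      _ = g * a * g⁻¹ * w := by rw [← hwc g⁻¹, ← mul_assoc]
      _ = z * a⁻¹ * w := by rw [hz]; group
      _ = a⁻¹ * (z * w) := by rw [← hzc, mul_assoc]
      _ = (a * w)⁻¹ := by rw [hzw, ← mul_inv_rev, ← hwc a]
  refine ⟨w, hwZ, hinv, ?_⟩
  have hpZ : (a * w) ^ p ∈ Z := by
    rw [(Commute.mul_pow (hwc a) p : (a * w) ^ p = a ^ p * w ^ p)]
    exact mul_mem hap (pow_mem hwZ p)
  refine eq_one_of_eq_inv_of_odd ?_ (hodd' _ hpZ)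
  calc (a * w) ^ p = g * (a * w) ^ p * g⁻¹ := by
        rw [mem_center_iff.1 (hZ hpZ) g, mul_inv_cancel_right]
    _ = ((a * w) ^ p)⁻¹ := inv_pow_of_inverted hinv p

/-- No element inverts an elementary abelian group of rank two modulo an odd central subgroup. -/
theorem pair {Z : Subgroup H} (hZ : Z ≤ center H) (hodd : Odd (Nat.card Z)) {p : ℕ}
    (hp : p.Prime) (hp2 : p ≠ 2) {g a b : H} (ha : a ∉ Z) (hap : a ^ p ∈ Z) (hbp : b ^ p ∈ Z)
    (hga : g * a * g⁻¹ * a ∈ Z) (hgb : g * b * g⁻¹ * b ∈ Z)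
    (hab : a * b * a⁻¹ * b⁻¹ ∈ Z) : ∃ k : ℕ, b * a ^ k ∈ Z := by
  haveI := Fact.mk hp
  by_contra hno
  push_neg at hno
  obtain ⟨w, hw, hgx, hxp⟩ := exists_inverted hZ hodd hap hga
  obtain ⟨w', hw', hgy, hyp⟩ := exists_inverted hZ hodd hbp hgb
  set x := a * w with hx
  set y := b * w' with hy
  have hwc : ∀ t : H, Commute t w := fun t => mem_center_iff.1 (hZ hw) t
  have hwc' : ∀ t : H, Commute t w' := fun t => mem_center_iff.1 (hZ hw') t
  have hpo : Odd p := hp.odd_of_ne_two hp2
  have hord : ∀ {t : H}, t ^ p = 1 → Odd (orderOf t) := fun h =>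
    hpo.of_dvd_nat (orderOf_dvd_of_pow_eq_one h)
  have hx1 : x ≠ 1 := fun h => ha (by
    rw [show a = w⁻¹ from mul_eq_one_iff_eq_inv.1 h]; exact inv_mem hw)
  have hrx : RealOdd x := realOdd_of_inverted hx1 (hord hxp) hgx
  set c := x * y * x⁻¹ * y⁻¹ with hc
  have hcZ : c ∈ Z := by
    have e : c = a * b * a⁻¹ * b⁻¹ := by
      rw [hc, hx, hy, mul_inv_rev, mul_inv_rev]
      calc a * w * (b * w') * (w⁻¹ * a⁻¹) * (w'⁻¹ * b⁻¹)
          = a * (w * (b * w')) * w⁻¹ * a⁻¹ * w'⁻¹ * b⁻¹ := by simp only [mul_assoc]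
        _ = a * b * w' * a⁻¹ * w'⁻¹ * b⁻¹ := by
          rw [← (hwc (b * w')).eq]; simp only [mul_assoc, mul_inv_cancel_left]
        _ = a * b * (w' * a⁻¹) * w'⁻¹ * b⁻¹ := by simp only [mul_assoc]
        _ = a * b * a⁻¹ * b⁻¹ := by
          rw [← (hwc' a⁻¹).eq]; simp only [mul_assoc, mul_inv_cancel_left]
    rw [e]; exact hab
  have hcc : ∀ t : H, Commute t c := fun t => mem_center_iff.1 (hZ hcZ) t
  have hyx : y * x * y⁻¹ = c⁻¹ * x := by rw [hc]; group
  have hcp : c⁻¹ ^ p = 1 := by
    have h1 : (y * x * y⁻¹) ^ p = 1 := by rw [conj_pow, hxp, mul_one, mul_inv_cancel]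
    rwa [hyx, (hcc x).inv_right.symm.mul_pow, hxp, mul_one] at h1
  have hc1 : c = 1 := by
    refine inv_eq_one.1 (hA.eq_one_of_lines hp hp2 hxp hcp (hcc x).inv_right fun i hi' => ?_)
    have hi : x * c⁻¹ ^ i = y ^ i * x * (y ^ i)⁻¹ := by
      clear hi'
      induction i with
      | zero => simp
      | succ i ih =>
        calc x * c⁻¹ ^ (i + 1) = c⁻¹ * x * c⁻¹ ^ i := by
              rw [pow_succ', ← mul_assoc, (hcc x).inv_right.eq]
          _ = y * x * y⁻¹ * c⁻¹ ^ i := by rw [hyx]
          _ = y * (x * c⁻¹ ^ i) * y⁻¹ := by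
              simp only [mul_assoc, ((hcc y).inv_right.inv_left.pow_right i).eq]
          _ = y ^ (i + 1) * x * (y ^ (i + 1))⁻¹ := by rw [ih, pow_succ']; group
    rw [hi]
    exact hrx.conj _
  have hxy : Commute x y := by
    rw [hc, mul_inv_eq_one, mul_inv_eq_iff_eq_mul] at hc1
    exact hc1
  have hy1 : y = 1 := by
    refine hA.eq_one_of_lines hp hp2 hxp hyp hxy fun i hi => ?_
    have hzp : (x * y ^ i) ^ p = 1 := by
      rw [(hxy.pow_right i).mul_pow, hxp, one_mul, ← pow_mul, mul_comm, pow_mul, hyp, one_pow]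
    refine realOdd_of_inverted (u := g) (fun h => ?_) (hord hzp) ?_
    · rcases Nat.eq_zero_or_pos i with rfl | hi0
      · exact hx1 (by simpa using h)
      have hcop : i.Coprime p := (hp.coprime_iff_not_dvd.2 fun hd =>
        absurd (Nat.le_of_dvd hi0 hd) (by omega)).symm
      obtain ⟨m, hm⟩ := exists_pow_eq_self_of_coprime (G := H) (x := y)
        (hcop.coprime_dvd_right (orderOf_dvd_of_pow_eq_one hyp))
      refine hno m ?_
      have h1 : y * x ^ m = 1 := by
        calc y * x ^ m = (y ^ i) ^ m * x ^ m := by rw [hm]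
          _ = (x * y ^ i) ^ m := by
              rw [← (hxy.pow_right i).symm.mul_pow, (hxy.pow_right i).eq]
          _ = 1 := by rw [h, one_pow]
      have h2 : b * a ^ m * (w' * w ^ m) = 1 := by
        rw [← h1, hy, hx, (hwc a).mul_pow]
        calc b * a ^ m * (w' * w ^ m) = b * (a ^ m * w') * w ^ m := by simp only [mul_assoc]
          _ = b * (w' * a ^ m) * w ^ m := by rw [(hwc' (a ^ m)).eq]
          _ = b * w' * (a ^ m * w ^ m) := by simp only [mul_assoc]
      rw [mul_eq_one_iff_eq_inv.1 h2]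
      exact inv_mem (mul_mem hw' (pow_mem hw m))
    · calc g * (x * y ^ i) * g⁻¹ = (g * x * g⁻¹) * (g * y ^ i * g⁻¹) := by group
        _ = x⁻¹ * (y ^ i)⁻¹ := by rw [hgx, inv_pow_of_inverted hgy]
        _ = (x * y ^ i)⁻¹ := by rw [← mul_inv_rev]; exact congrArg Inv.inv (hxy.pow_right i).eq.symm
  refine hno 0 ?_
  rw [pow_zero, mul_one, show b = w'⁻¹ from mul_eq_one_iff_eq_inv.1 hy1]
  exact inv_mem hw'

/-- The radical is central. -/
theorem solvable_le_center {R : Subgroup H} [R.Normal] (hR : Group.IsSolvable R) :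
    R ≤ center H := by
  classical
  set π := QuotientGroup.mk' (center H) with hπ
  have hπ1 : ∀ {z : H}, π z = 1 ↔ z ∈ center H := QuotientGroup.eq_one_iff _
  by_contra hle
  haveI : (R.map π).Normal := Normal.map inferInstance π (QuotientGroup.mk'_surjective _)
  obtain ⟨p, W, hp, hWn, hWne, -, hWc, hWexp⟩ :=
    exists_elementary_le (N := R.map π) (CfsgLib.Coprime.isSolvable_map π hR) (fun h => hle (by
      intro r hr
      refine hπ1.1 ?_
      have : π r ∈ R.map π := mem_map_of_mem π hr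
      rwa [h, mem_bot] at this))
  haveI := hWn
  have hodd := hA.center_odd
  refine hWne ((eq_bot_iff_forall W).2 fun e he => ?_)
  obtain ⟨x, rfl⟩ := QuotientGroup.mk'_surjective (center H) e
  have hcomm : ∀ {a b : H}, π a ∈ W → π b ∈ W → a * b * a⁻¹ * b⁻¹ ∈ center H := by
    intro a b ha hb
    refine hπ1.1 ?_
    rw [map_mul, map_mul, map_mul, map_inv, map_inv, (hWc _ ha _ hb).eq]
    group
  rcases hp.eq_two_or_odd' with rfl | hpo
  · let K : Subgroup H :=
      { carrier := {t | π t ∈ W ∧ t ^ 2 = 1}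
        one_mem' := ⟨by simp, one_pow _⟩
        mul_mem' := fun {a b} ha hb => ⟨by rw [map_mul]; exact mul_mem ha.1 hb.1, by
          have hc := hcomm ha.1 hb.1
          set c := a * b * a⁻¹ * b⁻¹ with hcdef
          have hcc : ∀ t : H, Commute t c := fun t => mem_center_iff.1 hc t
          have h1 : a * b * a⁻¹ = c * b := by rw [hcdef]; group
          have h2 : c ^ 2 = 1 := by
            have h3 : (a * b * a⁻¹) ^ 2 = 1 := by rw [conj_pow, hb.2, mul_one, mul_inv_cancel]
            rwa [h1, (hcc b).symm.mul_pow, hb.2, mul_one] at h3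
          have h3 : c = 1 := eq_one_of_eq_inv_of_odd
            (eq_inv_of_mul_eq_one_left (by rwa [pow_two] at h2))
            (hodd.of_dvd_nat (orderOf_dvd_natCard _ hc))
          rw [h3, one_mul, mul_inv_eq_iff_eq_mul] at h1
          rw [(show Commute a b from h1).mul_pow, ha.2, hb.2, one_mul]⟩
        inv_mem' := fun {a} ha => ⟨by rw [map_inv]; exact inv_mem ha.1, by
          rw [inv_pow, ha.2, inv_one]⟩ }
    haveI : K.Normal := ⟨fun t ht h => ⟨by
      rw [map_mul, map_mul, map_inv]; exact hWn.conj_mem _ ht.1 _, by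
      rw [conj_pow, ht.2]; group⟩⟩
    have hK := hA.eq_bot_of_two (K := K) fun t => ⟨1, Subtype.ext t.2.2⟩
    obtain ⟨m, hm⟩ := hodd
    set x' := x ^ Nat.card (center H) with hx'
    have hsq : π x ^ 2 = 1 := hWexp _ he
    have hx'K : x' ∈ K := by
      refine ⟨by rw [hx', map_pow]; exact pow_mem he _, ?_⟩
      have hz : x ^ 2 ∈ center H := hπ1.1 (by rw [map_pow, hsq])
      rw [hx', ← pow_mul, mul_comm, pow_mul]
      exact congrArg Subtype.val (pow_card_eq_one' (x := (⟨x ^ 2, hz⟩ : center H)))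
    rw [hK, mem_bot] at hx'K
    have := congrArg π hx'K
    rwa [hx', map_pow, map_one, hm, pow_succ, pow_mul, hsq, one_pow, one_mul] at this
  haveI := Fact.mk hp
  have hp2 : p ≠ 2 := by rintro rfl; exact absurd hpo (by decide)
  letI : CommGroup W :=
    { (inferInstance : Group W) with mul_comm := fun a b => Subtype.ext (hWc a a.2 b b.2).eq }
  have hpW : ∀ v : Additive W, p • v = 0 := fun v => by
    apply Additive.toMul.injective
    rw [toMul_nsmul, toMul_zero]
    exact Subtype.ext (hWexp _ v.toMul.2)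
  letI : Module (ZMod p) (Additive W) := @AddCommGroup.zmodModule p (Additive W) inferInstance hpW
  haveI : Finite (Additive W) := inferInstanceAs (Finite W)
  haveI : FiniteDimensional (ZMod p) (Additive W) := Module.Finite.of_finite
  let E : MulAut W →* Module.End (ZMod p) (Additive W) :=
    { toFun := fun f => (MonoidHom.toAdditive f.toMonoidHom).toZModLinearMap p
      map_one' := LinearMap.ext fun _ => rfl
      map_mul' := fun _ _ => LinearMap.ext fun _ => rfl }
  let ψ : H →* MulAut W := (MulAut.conjNormal (H := W)).comp π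
  have hψ : ∀ (h : H) (v : W), ((ψ h v : W) : H ⧸ center H) = π h * v * (π h)⁻¹ :=
    fun h v => MulAut.conjNormal_apply (π h) _
  have step : ∀ h : H, ψ h * ψ h = 1 → ψ h = 1 := by
    intro h hh
    have hE : E (ψ h) = 1 := by
      refine eq_one_of_sq_det ?_ (by rw [← map_mul, hh, map_one]) ?_ ?_
      · rw [show (2 : ZMod p) = ((2 : ℕ) : ZMod p) by norm_num, Ne, ZMod.natCast_eq_zero_iff]
        exact fun hd => hp2 ((Nat.prime_dvd_prime_iff_eq hp Nat.prime_two).1 hd)
      · have := hom_eq_one_of_perfect hA.perfect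
          (((LinearMap.det).comp (E.comp ψ)).toHomUnits) h
        exact congrArg Units.val this
      · intro e₁ e₂ he₁ he₂ he0
        obtain ⟨a, ha⟩ := QuotientGroup.mk'_surjective (center H) (e₁.toMul : W).1
        obtain ⟨b, hb⟩ := QuotientGroup.mk'_surjective (center H) (e₂.toMul : W).1
        have hinv : ∀ (d : Additive W) (t : H), E (ψ h) d = -d → π t = (d.toMul : W).1 →
            h * t * h⁻¹ * t ∈ center H := by
          intro d t hd ht
          refine hπ1.1 ?_
          have h1 : ((ψ h d.toMul : W) : H ⧸ center H) = ((d.toMul : W) : H ⧸ center H)⁻¹ :=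
            congrArg (fun v : Additive W => ((v.toMul : W) : H ⧸ center H)) hd
          rw [hψ, ← ht] at h1
          rw [map_mul, map_mul, map_mul, map_inv, h1, inv_mul_cancel]
        obtain ⟨k, hk⟩ := hA.pair le_rfl hodd hp hp2 (g := h) (a := a) (b := b)
          (fun hmem => he0 (Additive.toMul.injective (Subtype.ext (by
            rw [← ha, hπ1.2 hmem]; rfl))))
          (hπ1.1 (by rw [map_pow, ha]; exact hWexp _ e₁.toMul.2))
          (hπ1.1 (by rw [map_pow, hb]; exact hWexp _ e₂.toMul.2))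
          (hinv e₁ a he₁ ha) (hinv e₂ b he₂ hb)
          (hcomm (by rw [ha]; exact e₁.toMul.2) (by rw [hb]; exact e₂.toMul.2))
        refine Submodule.mem_span_singleton.2 ⟨-(k : ZMod p), ?_⟩
        rw [neg_smul, Nat.cast_smul_eq_nsmul, neg_eq_iff_add_eq_zero, add_comm]
        refine Additive.toMul.injective (Subtype.ext ?_)
        have h2 := hπ1.2 hk
        rw [map_mul, map_pow, ha, hb] at h2
        exact h2
    refine MulEquiv.ext fun v => ?_
    exact congrArg Additive.toMul (LinearMap.congr_fun hE (Additive.ofMul v))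
  have hψ1 : ∀ h : H, ψ h = 1 := by
    set M := ψ.range with hM
    have hMo : Odd (Nat.card M) := by
      rw [← Nat.not_even_iff_odd, even_iff_two_dvd]
      intro hd
      haveI : Fact (Nat.Prime 2) := ⟨Nat.prime_two⟩
      obtain ⟨⟨_, t, rfl⟩, ht⟩ := exists_prime_orderOf_dvd_card' 2 hd
      rw [← orderOf_coe] at ht
      have := step t (invol_mul_self ht)
      simp [this] at ht
    have hMs := CfsgLib.FT.isSolvable_of_odd hMo
    have hMp : commutator M = ⊤ := by
      rw [eq_top_iff, ← map_top_of_surjective ψ.rangeRestrict ψ.rangeRestrict_surjective,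
        ← hA.perfect, map_commutator_eq, MonoidHom.range_eq_top.2 ψ.rangeRestrict_surjective]
      exact le_of_eq rfl
    have hsub : Subsingleton M := by
      by_contra hns
      haveI : Nontrivial M := not_subsingleton_iff_nontrivial.1 hns
      exact (Group.IsSolvable.commutator_lt_top_of_nontrivial (G := M) (hG := hMs)).ne hMp
    exact fun h => congrArg Subtype.val (hsub.elim ⟨ψ h, h, rfl⟩ 1)
  have hcx : ∀ h : H, h * x * h⁻¹ * x⁻¹ ∈ center H := fun h => hπ1.1 (by
    have h1 := congrArg Subtype.val (congrArg (fun f : MulAut W => f ⟨π x, he⟩) (hψ1 h))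
    simp only [MulAut.one_apply] at h1
    rw [hψ] at h1
    rw [map_mul, map_mul, map_mul, map_inv, map_inv, h1, mul_inv_cancel])
  letI : CommGroup (center H) :=
    { (inferInstance : Group (center H)) with
      mul_comm := fun a b => Subtype.ext (mem_center_iff.1 b.2 a) }
  let f : H →* center H := MonoidHom.mk' (fun h => ⟨h * x * h⁻¹ * x⁻¹, hcx h⟩) fun h k => by
    refine Subtype.ext ?_
    show h * k * x * (h * k)⁻¹ * x⁻¹ = (h * x * h⁻¹ * x⁻¹) * (k * x * k⁻¹ * x⁻¹)
    calc h * k * x * (h * k)⁻¹ * x⁻¹ = h * ((k * x * k⁻¹ * x⁻¹) * x) * h⁻¹ * x⁻¹ := by group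
      _ = (k * x * k⁻¹ * x⁻¹) * (h * x * h⁻¹ * x⁻¹) := by
          rw [← mul_assoc, mem_center_iff.1 (hcx k) h]; simp only [mul_assoc]
      _ = _ := (mem_center_iff.1 (hcx k) _).symm
  refine hπ1.2 (mem_center_iff.2 fun h => ?_)
  have h1 : h * x * h⁻¹ * x⁻¹ = 1 :=
    congrArg Subtype.val (hom_eq_one_of_perfect hA.perfect f h)
  rw [mul_inv_eq_one, mul_inv_eq_iff_eq_mul] at h1
  exact h1

end Act

/-- `V` is a minimal normal elementary abelian 2-subgroup without fixed points of real odd elements. -/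
structure FpfModule (V : Subgroup G) : Prop where
  normal : V.Normal
  ne_bot : V ≠ ⊥
  sq : ∀ v ∈ V, v * v = 1
  comm : ∀ v ∈ V, ∀ w ∈ V, Commute v w
  minimal : ∀ W : Subgroup G, W.Normal → W ≤ V → W = ⊥ ∨ W = V
  fpf : ∀ x : G, RealOdd x → ∀ v ∈ V, Commute v x → v = 1

namespace FpfModule

variable {V : Subgroup G}

/-- The group induced on the module acts as in `Act`. -/
theorem exists_act (hV : FpfModule V) (hp : commutator G = ⊤)
    (hC : Group.IsSolvable (centralizer (V : Set G))) :
    ∃ (H : Type u) (_ : Group H) (_ : Finite H) (S : Type u) (_ : CommGroup S) (_ : Finite S)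
      (φ : H →* MulAut S) (π : G →* H),
      Act φ ∧ Function.Surjective π ∧ π.ker = centralizer (V : Set G) := by
  classical
  haveI := hV.normal
  letI : CommGroup V :=
    { (inferInstance : Group V) with mul_comm := fun a b => Subtype.ext (hV.comm a a.2 b b.2).eq }
  let c : G →* MulAut V := MulAut.conjNormal (H := V)
  have hc : ∀ (g : G) (v : V), ((c g v : V) : G) = g * v * g⁻¹ :=
    fun g v => MulAut.conjNormal_apply g v
  have hfix : ∀ (g : G) (v : V), c g v = v ↔ Commute g (v : G) := fun g v => by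
    rw [Subtype.ext_iff, hc, mul_inv_eq_iff_eq_mul]; exact Iff.rfl
  have hker : c.ker = centralizer (V : Set G) := by
    ext g
    rw [MonoidHom.mem_ker, mem_centralizer_iff]
    refine ⟨fun h v hv => ((hfix g ⟨v, hv⟩).1 (by rw [h]; rfl)).eq.symm, fun h => ?_⟩
    exact MulEquiv.ext fun v => (hfix g v).2 (h v v.2).symm
  haveI : Finite c.range := Finite.of_surjective c.rangeRestrict c.rangeRestrict_surjective
  refine ⟨c.range, inferInstance, inferInstance, V, inferInstance, inferInstance, c.range.subtype,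
    c.rangeRestrict, ?_, c.rangeRestrict_surjective, by rw [MonoidHom.ker_rangeRestrict, hker]⟩
  refine ⟨fun v => Subtype.ext (hV.sq v v.2), (nontrivial_iff_ne_bot V).2 hV.ne_bot,
    c.range.subtype_injective, ?_, ?_, ?_⟩
  · rw [eq_top_iff, ← map_top_of_surjective c.rangeRestrict c.rangeRestrict_surjective, ← hp,
      map_commutator_eq, MonoidHom.range_eq_top.2 c.rangeRestrict_surjective]
    exact le_of_eq rfl
  · intro K hK v hv1 hv
    haveI : (K.comap c.rangeRestrict).Normal := hK.comap c.rangeRestrict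
    set W := V ⊓ centralizer (K.comap c.rangeRestrict : Set G) with hW
    haveI : W.Normal := normal_inf_normal V _
    have hvW : (v : G) ∈ W := ⟨v.2, mem_centralizer_iff.2 fun t ht =>
      ((hfix t v).1 (hv _ ht)).eq⟩
    rcases hV.minimal W inferInstance inf_le_left with h | h
    · rw [h, mem_bot] at hvW
      exact absurd (Subtype.ext hvW) hv1
    · refine (eq_bot_iff_forall K).2 fun k hk => ?_
      obtain ⟨t, rfl⟩ := c.rangeRestrict_surjective k
      refine Subtype.ext (MulEquiv.ext fun w => (hfix t w).2 ?_)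
      have hw : (w : G) ∈ W := h.symm ▸ w.2
      exact mem_centralizer_iff.1 hw.2 t hk
  · intro x hx v hv
    obtain ⟨t, ht, rfl⟩ := exists_realOdd_lift_hom _ c.rangeRestrict c.rangeRestrict_surjective
      le_rfl (by rwa [MonoidHom.ker_rangeRestrict, hker]) hx
    exact Subtype.ext (hV.fpf t ht v v.2 ((hfix t v).1 hv).symm)

end FpfModule

/-- In a perfect group the radical acts on the module as scalars do. -/
theorem radical_central {V : Subgroup G} (hV : FpfModule V) (hp : commutator G = ⊤)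
    (hC : Group.IsSolvable (Subgroup.centralizer (V : Set G)))
    (R : Subgroup G) [R.Normal] (hR : Group.IsSolvable R) :
    ∀ r ∈ R, ∀ g : G, g * r * g⁻¹ * r⁻¹ ∈ Subgroup.centralizer (V : Set G) := by
  obtain ⟨H, _, _, S, _, _, φ, π, hA, hπ, hker⟩ := hV.exists_act hp hC
  haveI : (R.map π).Normal := Normal.map inferInstance π hπ
  intro r hr g
  have h1 := hA.solvable_le_center (CfsgLib.Coprime.isSolvable_map π hR) (mem_map_of_mem π hr)
  rw [← hker, MonoidHom.mem_ker, map_mul, map_mul, map_mul, map_inv, map_inv,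
    mem_center_iff.1 h1 (π g)]
  group

/-- No involution of the quotient by the radical inverts an elementary abelian group of rank two. -/
theorem noPair_quotient {V : Subgroup G} (hV : FpfModule V) (hp : commutator G = ⊤)
    (R : Subgroup G) [R.Normal] (hR : Group.IsSolvable R)
    (hVR : Subgroup.centralizer (V : Set G) ≤ R)
    (u a b : G ⧸ R) (p : ℕ) (hu : orderOf u = 2) (hpp : p.Prime) (hp2 : p ≠ 2)
    (ha : orderOf a = p)
    (hb : orderOf b = p) (hab : Commute a b) (hua : u * a * u⁻¹ = a⁻¹) (hub : u * b * u⁻¹ = b⁻¹) :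
    b ∈ Subgroup.zpowers a := by
  obtain ⟨H, _, _, S, _, _, φ, π, hA, hπ, hker⟩ :=
    hV.exists_act hp (CfsgLib.Coprime.isSolvable_of_le hVR hR)
  haveI : (R.map π).Normal := Normal.map inferInstance π hπ
  have hcen := hA.solvable_le_center (CfsgLib.Coprime.isSolvable_map π hR)
  have hodd : Odd (Nat.card (R.map π)) := hA.center_odd.of_dvd_nat (card_dvd_of_le hcen)
  have hiff : ∀ t : G, π t ∈ R.map π ↔ QuotientGroup.mk' R t = 1 := fun t => by
    rw [← mem_comap, comap_map_eq_self (hker ▸ hVR)]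
    exact (QuotientGroup.eq_one_iff t).symm
  obtain ⟨u, rfl⟩ := QuotientGroup.mk'_surjective R u
  obtain ⟨a, rfl⟩ := QuotientGroup.mk'_surjective R a
  obtain ⟨b, rfl⟩ := QuotientGroup.mk'_surjective R b
  obtain ⟨k, hk⟩ := hA.pair hcen hodd hpp hp2 (g := π u) (a := π a) (b := π b)
    (by rw [hiff]; intro h; rw [h, orderOf_one] at ha; exact hpp.one_lt.ne ha)
    (by rw [← map_pow, hiff, map_pow, ← ha, pow_orderOf_eq_one])
    (by rw [← map_pow, hiff, map_pow, ← hb, pow_orderOf_eq_one])
    (by rw [← map_inv π, ← map_mul, ← map_mul, ← map_mul, hiff, map_mul, map_mul, map_mul, map_inv,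
          hua, inv_mul_cancel])
    (by rw [← map_inv π, ← map_mul, ← map_mul, ← map_mul, hiff, map_mul, map_mul, map_mul, map_inv,
          hub, inv_mul_cancel])
    (by rw [← map_inv π, ← map_inv π, ← map_mul, ← map_mul, ← map_mul, hiff, map_mul, map_mul,
          map_mul, map_inv, map_inv, hab.eq]; group)
  rw [← map_pow, ← map_mul, hiff, map_mul, map_pow] at hk
  rw [mul_eq_one_iff_eq_inv.1 hk]
  exact inv_mem (pow_mem (mem_zpowers _) k)

end CfsgLib.FgsD.RealGraph
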