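import Cfsg.Agent.Lib.FgsD.RealGraph.Trans
import Cfsg.Agent.Lib.FgsD.RealGraph.Graph
import Cfsg.Agent.Lib.Involutions.ZStar.Main
import Cfsg.Agent.Lib.Base.Cores

/-!
# A simple group whose real centralisers are transitive on the Sylow 2-subgroups, part 2

There is no such group. A central involution of a Sylow 2-subgroup `S` outside the largest group `E`
of central involutions centralising a real element is isolated in `C(E)`: its conjugates act on
the Sylow 2-subgroups of `C(E)` with one fixed point each, and two of them moving a point alike have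
the same fixed point, so by counting the action is determined by the fixed point. The Z*-theorem
then yields elements of odd order inverted by these involutions, and moving `E` by the normaliser
of `S` gives a contradiction.
-/

set_option autoImplicit false
set_option linter.unusedSectionVars false

open scoped Pointwise

namespace CfsgLib.FgsD.RealGraph

open Subgroup CfsgLib.Involutions

/-- A maximal group of central involutions centralising a real element of odd order. -/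
structure Config {L : Type*} [Group L] (S : Sylow 2 L) (E : Subgroup L) (y g : L) : Prop where
  le : E ≤ zInv S
  real : RealOdd y
  ycomm : ∀ e ∈ E, Commute e y
  gcomm : ∀ e ∈ E, Commute e g
  gtwo : ∃ k, orderOf g = 2 ^ k
  inv : g * y * g⁻¹ = y⁻¹
  max : ∀ x : L, RealOdd x → (∀ e ∈ E, Commute e x) → ∀ v ∈ zInv S, Commute v x → v ∈ E

namespace Setup

variable {L : Type*} [Group L] [Finite L] (K : Setup L)
include K

theorem exists_real : ∃ x : L, RealOdd x := by
  have : Fact (Nat.Prime 2) := ⟨Nat.prime_two⟩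
  obtain ⟨S⟩ := (inferInstance : Nonempty (Sylow 2 L))
  obtain ⟨x, u, r, hr, hr2, hx, hu⟩ :=
    CfsgLib.FgsB.exists_odd_prime_inverted_of_not_normal S fun h =>
      (K.normal_cases h).elim (K.sylow_ne_bot S) (K.sylow_ne_top S)
  exact ⟨x, realOdd_of_inverted (fun e => hr.ne_one (by rw [← hx, e, orderOf_one]))
    (hx ▸ hr.odd_of_ne_two hr2) hu⟩

theorem exists_config (S : Sylow 2 L) : ∃ (E : Subgroup L) (y g : L), Config S E y g := by
  classical
  have : Fact (Nat.Prime 2) := ⟨Nat.prime_two⟩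
  obtain ⟨y₀, hy₀, hmax⟩ := Set.exists_max_image {x : L | RealOdd x}
    (fun x => Nat.card ↥(zInv S ⊓ centralizer ({x} : Set L))) (Set.toFinite _) K.exists_real
  set E := zInv S ⊓ centralizer ({y₀} : Set L) with hE
  have hle : E ≤ zInv S := inf_le_left
  set H := centralizer (E : Set L) with hH
  have hSH : (S : Subgroup L) ≤ H := fun s hs =>
    mem_centralizer_iff.2 fun e he => ((hle he).2.2 s hs).symm.eq
  have hyH : y₀ ∈ H := mem_centralizer_iff.2 fun e he =>
    mem_centralizer_singleton_iff.1 (mem_inf.1 he).2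
  have hnn : ¬ ((S.subtype hSH : Sylow 2 H) : Subgroup H).Normal := by
    rw [Sylow.coe_subtype, normal_subgroupOf_iff_le_normalizer hSH]
    exact fun h => K.not_fix hy₀ S (Sylow.smul_eq_iff_mem_normalizer.2 (h hyH))
  obtain ⟨y, u, r, hr, hr2, hy, hu⟩ := CfsgLib.FgsB.exists_odd_prime_inverted_of_not_normal _ hnn
  obtain ⟨g, ⟨k, hk⟩, hg⟩ := CfsgLib.RealElt.exists_two_element_inverts (isConj_iff.2 ⟨u, hu⟩)
  have hinv : (g : L) * (y : L) * (g : L)⁻¹ = (y : L)⁻¹ := by
    simpa only [← Subgroup.coe_inv, ← Subgroup.coe_mul] using congrArg Subtype.val hg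
  refine ⟨E, y, g, hle, realOdd_of_inverted ?_ ?_ hinv, fun e he => mem_centralizer_iff.1 y.2 e he,
    fun e he => mem_centralizer_iff.1 g.2 e he, ⟨k, by rw [orderOf_coe, hk]⟩, hinv, ?_⟩
  · intro e
    rw [show y = 1 from Subtype.ext e, orderOf_one] at hy
    exact hr.ne_one hy.symm
  · rw [orderOf_coe, hy]; exact hr.odd_of_ne_two hr2
  · intro x hx hxE v hv hvx
    have hsub : E ≤ zInv S ⊓ centralizer ({x} : Set L) := fun e he =>
      mem_inf.2 ⟨hle he, mem_centralizer_singleton_iff.2 (hxE e he)⟩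
    have := Subgroup.eq_of_le_of_card_ge hsub (hmax x hx)
    rw [this]
    exact mem_inf.2 ⟨hv, mem_centralizer_singleton_iff.2 hvx⟩

variable {S : Sylow 2 L} {E : Subgroup L} {y g : L} (hc : Config S E y g)
include hc

omit K in
theorem sylow_le : (S : Subgroup L) ≤ centralizer (E : Set L) := fun s hs =>
  mem_centralizer_iff.2 fun _ he => ((hc.le he).2.2 s hs).symm.eq

omit K in
theorem smul_le {h : L} (hh : h ∈ centralizer (E : Set L)) :
    ((h • S : Sylow 2 L) : Subgroup L) ≤ centralizer (E : Set L) := by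
  intro s hs
  have h1 := mul_mem (mul_mem hh (sylow_le hc (mem_smul.1 hs))) (inv_mem hh)
  simpa [mul_assoc] using h1

omit K in
/-- The Sylow 2-subgroups of `C(E)` are the conjugates of `S`. -/
theorem exists_smul {P : Subgroup L} (hP : IsPGroup 2 P) (hPH : P ≤ centralizer (E : Set L)) :
    ∃ h ∈ centralizer (E : Set L), P ≤ ((h • S : Sylow 2 L) : Subgroup L) := by
  have : Fact (Nat.Prime 2) := ⟨Nat.prime_two⟩
  have hP' : IsPGroup 2 (P.subgroupOf (centralizer (E : Set L))) :=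
    hP.comap_of_injective _ Subtype.val_injective
  obtain ⟨R, hR⟩ := hP'.exists_le_sylow
  obtain ⟨h, rfl⟩ := MulAction.exists_smul_eq (centralizer (E : Set L))
    (S.subtype (sylow_le hc) : Sylow 2 (centralizer (E : Set L))) R
  refine ⟨h, h.2, fun x hx => mem_smul.2 ?_⟩
  have h1 := mem_smul.1 (hR (show (⟨x, hPH hx⟩ : centralizer (E : Set L)) ∈ _ from hx))
  rw [Sylow.coe_subtype, mem_subgroupOf] at h1
  simpa using h1

theorem unique {z : L} (hz : z ∈ zInv S) (hzE : z ∉ E) {T : Sylow 2 L}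
    (hT : (T : Subgroup L) ≤ centralizer (E : Set L)) (hzT : z ∈ (T : Subgroup L)) : T = S := by
  have : Fact (Nat.Prime 2) := ⟨Nat.prime_two⟩
  set C := centralizer ({z} : Set L) ⊓ centralizer (E : Set L) with hC
  have hno : ∀ x ∈ C, ¬ RealOdd x := fun x hx hr => hzE (hc.max x hr
    (fun e he => mem_centralizer_iff.1 (mem_inf.1 hx).2 e he) z hz
    (mem_centralizer_singleton_iff.1 (mem_inf.1 hx).1).symm)
  have hSC : (S : Subgroup L) ≤ C := fun s hs =>
    mem_inf.2 ⟨mem_centralizer_singleton_iff.2 (hz.2.2 s hs), sylow_le hc hs⟩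
  have hTC : (T : Subgroup L) ≤ C := fun s hs =>
    mem_inf.2 ⟨mem_centralizer_singleton_iff.2 ((K.zInv_of_mem hz hzT).2.2 s hs), hT hs⟩
  have hn := sylow_normal C hno (S.subtype hSC)
  have := Sylow.unique_of_normal (S.subtype hSC : Sylow 2 C) hn
  exact Sylow.subtype_injective (Subsingleton.elim (T.subtype hTC) (S.subtype hSC))

/-- A conjugate `k z k⁻¹` fixes only `k • S`. -/
theorem eq_of_fix {z : L} (hz : z ∈ zInv S) (hzE : z ∉ E) {k : L}
    (hk : k ∈ centralizer (E : Set L)) {T : Sylow 2 L}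
    (hT : (T : Subgroup L) ≤ centralizer (E : Set L)) (hfix : (k * z * k⁻¹) • T = T) :
    T = k • S := by
  have h1 : z ≠ 1 := fun e => hzE (e ▸ one_mem _)
  have h2 : z • (k⁻¹ • T) = k⁻¹ • T := by
    conv_rhs => rw [← hfix]
    simp only [← mul_smul]
    congr 1
    group
  have h3 : k⁻¹ • T = S := by
    refine K.unique hc hz hzE ?_ (mem_of_smul_eq (k := 1) (by rw [orderOf_zInv hz h1, pow_one]) h2)
    intro x hx
    have h4 := mul_mem (mul_mem (inv_mem hk) (hT (mem_smul.1 hx))) hk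
    simpa [mul_assoc] using h4
  rw [← h3, smul_inv_smul]

/-- Two conjugates of `z` moving one Sylow 2-subgroup alike have the same fixed point. -/
theorem pair {z : L} (hz : z ∈ zInv S) (hzE : z ∉ E) {k₁ k₂ : L}
    (hk₁ : k₁ ∈ centralizer (E : Set L)) (hk₂ : k₂ ∈ centralizer (E : Set L)) {T : Sylow 2 L}
    (he : (k₁ * z * k₁⁻¹) • T = (k₂ * z * k₂⁻¹) • T) : k₁ • S = k₂ • S := by
  have : Fact (Nat.Prime 2) := ⟨Nat.prime_two⟩
  have h1 : z ≠ 1 := fun e => hzE (e ▸ one_mem _)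
  set v₁ := k₁ * z * k₁⁻¹ with hv₁
  set v₂ := k₂ * z * k₂⁻¹ with hv₂
  have ho₁ : orderOf v₁ = 2 := conj_invol k₁ (orderOf_zInv hz h1)
  have ho₂ : orderOf v₂ = 2 := conj_invol k₂ (orderOf_zInv hz h1)
  have hv₁H : v₁ ∈ centralizer (E : Set L) :=
    mul_mem (mul_mem hk₁ (sylow_le hc hz.1)) (inv_mem hk₁)
  have hv₂H : v₂ ∈ centralizer (E : Set L) :=
    mul_mem (mul_mem hk₂ (sylow_le hc hz.1)) (inv_mem hk₂)
  have hfix₁ : ∀ R : Sylow 2 L, (R : Subgroup L) ≤ centralizer (E : Set L) → v₁ • R = R →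
      R = k₁ • S := fun R hR hf => K.eq_of_fix hc hz hzE hk₁ hR hf
  have hfix₂ : ∀ R : Sylow 2 L, (R : Subgroup L) ≤ centralizer (E : Set L) → v₂ • R = R →
      R = k₂ • S := fun R hR hf => K.eq_of_fix hc hz hzE hk₂ hR hf
  clear_value v₁ v₂
  set d := v₁ * v₂ with hd
  have hinv : v₁ * d * v₁⁻¹ = d⁻¹ := by
    rw [hd, mul_inv_rev, invol_inv ho₁, invol_inv ho₂, ← mul_assoc v₁ v₁, invol_mul_self ho₁,
      one_mul]
  have hdT : d • T = T := by
    rw [hd, mul_smul, ← he, ← mul_smul, invol_mul_self ho₁, one_smul]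
  obtain ⟨a, m, hm, hdm⟩ :=
    Nat.exists_eq_pow_mul_and_not_dvd (orderOf_pos d).ne' 2 (by norm_num)
  have hda : d ^ 2 ^ a = 1 := by
    by_contra hne
    have hpfix : ∀ n : ℕ, d ^ n • T = T := by
      intro n
      induction n with
      | zero => rw [pow_zero, one_smul]
      | succ n ih => rw [pow_succ, mul_smul, hdT, ih]
    refine K.not_fix (realOdd_of_inverted hne ?_ (inv_pow_of_inverted hinv _)) T (hpfix _)
    rw [orderOf_pow, hdm, Nat.gcd_eq_right (Dvd.intro _ rfl), Nat.mul_div_cancel_left _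
      (by positivity)]
    exact Nat.not_even_iff_odd.1 fun h => hm h.two_dvd
  obtain ⟨b, -, hb⟩ := (Nat.dvd_prime_pow Nat.prime_two).1 (orderOf_dvd_of_pow_eq_one hda)
  have hD : IsPGroup 2 (zpowers d) := IsPGroup.of_card (n := b) (by rw [Nat.card_zpowers, hb])
  have hV : IsPGroup 2 (zpowers v₁) := IsPGroup.of_card (n := 1) (by
    rw [Nat.card_zpowers, ho₁, pow_one])
  have hn : zpowers v₁ ≤ normalizer ((zpowers d : Subgroup L) : Set L) := by
    rw [zpowers_le, mem_normalizer_iff]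
    intro n
    constructor
    · rintro ⟨i, rfl⟩
      exact ⟨-i, by simp [inv_zpow_of_inverted hinv, zpow_neg]⟩
    · rintro ⟨i, hi⟩
      refine ⟨-i, ?_⟩
      simp only at hi
      show d ^ (-i) = n
      rw [zpow_neg]
      calc (d ^ i)⁻¹ = v₁⁻¹ * (v₁ * (d ^ i)⁻¹ * v₁⁻¹) * v₁ := by group
        _ = v₁⁻¹ * (v₁ * (d ^ i) * v₁⁻¹)⁻¹ * v₁ := by rw [conj_inv]
        _ = v₁⁻¹ * (d ^ i) * v₁ := by rw [inv_zpow_of_inverted hinv, inv_inv]
        _ = n := by rw [hi]; group
  have hP := hV.to_sup_of_normal_right' hD hn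
  obtain ⟨h, hh, hle⟩ := exists_smul hc hP (sup_le (zpowers_le.2 hv₁H)
    (zpowers_le.2 (mul_mem hv₁H hv₂H)))
  have h1' := hle (mem_sup_left (mem_zpowers v₁))
  have h2' : v₂ ∈ ((h • S : Sylow 2 L) : Subgroup L) := by
    have := mul_mem h1' (hle (mem_sup_right (mem_zpowers d)))
    rwa [hd, ← mul_assoc, invol_mul_self ho₁, one_mul] at this
  rw [← hfix₁ _ (smul_le hc hh) (smul_eq_of_mem h1'),
    ← hfix₂ _ (smul_le hc hh) (smul_eq_of_mem h2')]

/-- The action of a conjugate of `z` is determined by its fixed point. -/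
theorem same_action {z : L} (hz : z ∈ zInv S) (hzE : z ∉ E) {k₁ k₂ : L}
    (hk₁ : k₁ ∈ centralizer (E : Set L)) (hk₂ : k₂ ∈ centralizer (E : Set L))
    (he : k₁ • S = k₂ • S) {T : Sylow 2 L} (hT : (T : Subgroup L) ≤ centralizer (E : Set L)) :
    (k₁ * z * k₁⁻¹) • T = (k₂ * z * k₂⁻¹) • T := by
  classical
  set Ω := {T : Sylow 2 L // (T : Subgroup L) ≤ centralizer (E : Set L)}
  have hchoose : ∀ c : Ω, ∃ k ∈ centralizer (E : Set L), k • S = c.1 := by
    intro c
    obtain ⟨h, hh, hle⟩ := exists_smul hc c.1.2 c.2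
    exact ⟨h, hh, Sylow.ext (c.1.3 (h • S : Sylow 2 L).2 hle)⟩
  choose k hk hkS using hchoose
  have hsm : ∀ {j : L}, j ∈ centralizer (E : Set L) → ∀ q : Ω,
      (((j * z * j⁻¹) • q.1 : Sylow 2 L) : Subgroup L) ≤ centralizer (E : Set L) := by
    intro j hj q x hx
    have hv := mul_mem (mul_mem hj (sylow_le hc hz.1)) (inv_mem hj)
    have h4 := mul_mem (mul_mem hv (q.2 (mem_smul.1 hx))) (inv_mem hv)
    simpa [mul_assoc] using h4
  let P := {cq : Ω × Ω // cq.2 ≠ cq.1}
  have hne : ∀ (c q : Ω), q ≠ c → (⟨_, hsm (hk c) q⟩ : Ω) ≠ q := by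
    intro c q hq h
    exact hq (Subtype.ext ((K.eq_of_fix hc hz hzE (hk c) q.2 (congrArg Subtype.val h)).trans
      (hkS c)))
  let Ψ : P → P := fun cq =>
    ⟨(cq.1.2, ⟨_, hsm (hk cq.1.1) cq.1.2⟩), hne cq.1.1 cq.1.2 cq.2⟩
  have hinj : Function.Injective Ψ := by
    rintro ⟨⟨c, q⟩, hcq⟩ ⟨⟨c', q'⟩, hcq'⟩ h
    have h1 : q = q' := congrArg (fun w : P => w.1.1) h
    subst h1
    have h2 := congrArg (fun w : P => (w.1.2 : Sylow 2 L)) h
    have h3 := K.pair hc hz hzE (hk c) (hk c') (T := q.1) h2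
    rw [hkS, hkS] at h3
    obtain rfl : c = c' := Subtype.ext h3
    rfl
  have hsurj := Finite.injective_iff_surjective.1 hinj
  have key : ∀ j ∈ centralizer (E : Set L), ∀ c : Ω, j • S = c.1 → ∀ q : Ω,
      (j * z * j⁻¹) • q.1 = (k c * z * (k c)⁻¹) • q.1 := by
    intro j hj c hjc q
    by_cases hqc : q = c
    · have hfix : ∀ i : L, i • S = c.1 → (i * z * i⁻¹) • c.1 = c.1 := by
        intro i hi
        rw [← hi, mul_smul, inv_smul_smul, mul_smul, smul_eq_of_mem hz.1]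
      subst hqc
      rw [hfix j hjc, hfix _ (hkS q)]
    have hv : (⟨_, hsm hj q⟩ : Ω) ≠ q := fun h => hqc (Subtype.ext
      ((K.eq_of_fix hc hz hzE hj q.2 (congrArg Subtype.val h)).trans hjc))
    obtain ⟨⟨⟨d, q'⟩, hd⟩, he'⟩ := hsurj ⟨(q, ⟨_, hsm hj q⟩), hv⟩
    have h1 : q' = q := congrArg (fun w : P => w.1.1) he'
    subst h1
    have h2 : (k d * z * (k d)⁻¹) • q'.1 = (j * z * j⁻¹) • q'.1 :=
      congrArg (fun w : P => (w.1.2 : Sylow 2 L)) he'
    have h3 := K.pair hc hz hzE (hk d) hj h2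
    rw [hkS, hjc] at h3
    obtain rfl : d = c := Subtype.ext h3
    exact h2.symm
  rw [key k₁ hk₁ ⟨k₁ • S, smul_le hc hk₁⟩ rfl ⟨T, hT⟩,
    key k₂ hk₂ ⟨k₁ • S, smul_le hc hk₁⟩ he.symm ⟨T, hT⟩]

/-- Such an involution does not centralise the odd core of `C(E)`. -/
theorem exists_moved {z : L} (hz : z ∈ zInv S) (hzE : z ∉ E) :
    ∃ o ∈ (Cfsg.oddCore ↥(centralizer (E : Set L))).map (centralizer (E : Set L)).subtype,
      ¬ Commute o z := by
  have : Fact (Nat.Prime 2) := ⟨Nat.prime_two⟩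
  set H := centralizer (E : Set L) with hH
  have h1 : z ≠ 1 := fun e => hzE (e ▸ one_mem _)
  have hzo := orderOf_zInv hz h1
  have hzH : z ∈ H := sylow_le hc hz.1
  have hiso : Cfsg.IsIsolatedInvolution (⟨z, hzH⟩ : H) := by
    refine isolated_of_sylow (S.subtype (sylow_le hc)) (by rw [← orderOf_coe]; exact hzo) ?_
    intro h hS
    replace hS : (h : L) * z * (h : L)⁻¹ ∈ (S : Subgroup L) := hS
    refine Subtype.ext ?_
    simp only [Subgroup.coe_mul, Subgroup.coe_inv]
    have hh : (h : L) ∈ centralizer (E : Set L) := h.2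
    set z' := (h : L) * z * (h : L)⁻¹ with hz'
    have hz'Z : z' ∈ zInv S := K.zInv_of_mem (zInv_smul hz (h : L)) hS
    have hz'E : z' ∉ E := fun he => hzE (by
      have h2 := mem_centralizer_iff.1 hh z' he
      have h3 : z = z' := by
        calc z = (h : L)⁻¹ * (z' * (h : L)) := by rw [hz']; group
          _ = z' := by rw [h2]; group
      rwa [← h3] at he)
    have hfixS : (h : L) • S = S := K.unique hc hz'Z hz'E (smul_le hc hh)
      (mem_smul.2 (by rw [hz']; simpa [mul_assoc] using hz.1))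
    -- `w = z z'` fixes every Sylow 2-subgroup of `C(E)`
    set w := z * z' with hw
    have hwZ : w ∈ zInv S := mul_mem hz hz'Z
    have hwT : ∀ j ∈ centralizer (E : Set L), w ∈ zInv (j • S) := by
      intro j hj
      refine K.zInv_of_mem hwZ ?_
      have hsame := K.same_action hc hz hzE (one_mem _) hh
        (by rw [one_smul, hfixS]) (smul_le hc hj)
      rw [one_mul, inv_one, mul_one, ← hz'] at hsame
      have hfix : w • (j • S) = j • S := by
        rw [hw, mul_smul, ← hsame, ← mul_smul z z, hz.2.1, one_smul]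
      rcases eq_or_ne w 1 with e | e
      · rw [e]; exact one_mem _
      · exact mem_of_smul_eq (k := 1) (by rw [orderOf_zInv hwZ e, pow_one]) hfix
    have hcomm : ∀ s : L, s ∈ centralizer (E : Set L) → (∃ i, orderOf s = 2 ^ i) → Commute s w := by
      rintro s hs ⟨i, hi⟩
      obtain ⟨j, hj, hle⟩ := exists_smul hc (P := zpowers s)
        (IsPGroup.of_card (n := i) (by rw [Nat.card_zpowers, hi])) (zpowers_le.2 hs)
      exact (hwT j hj).2.2 s (hle (mem_zpowers s))
    have hgH : g ∈ centralizer (E : Set L) := mem_centralizer_iff.2 hc.gcomm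
    have hyH : y ∈ centralizer (E : Set L) := mem_centralizer_iff.2 hc.ycomm
    have h4 := hcomm g hgH hc.gtwo
    have h5 := hcomm (y * g * y⁻¹) (mul_mem (mul_mem hyH hgH) (inv_mem hyH))
      (by obtain ⟨i, hi⟩ := hc.gtwo; exact ⟨i, by rw [orderOf_conj_eq]; exact hi⟩)
    have h6 : Commute w (y ^ 2) := by
      have e : y ^ 2 = y * g * y⁻¹ * g⁻¹ := by
        have hi : g * y⁻¹ * g⁻¹ = y := by rw [← conj_inv, hc.inv, inv_inv]
        calc y ^ 2 = y * (g * y⁻¹ * g⁻¹) := by rw [hi, sq]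
          _ = y * g * y⁻¹ * g⁻¹ := by group
      rw [e]
      exact (h5.mul_left h4.inv_left).symm
    have hwE : w ∈ E := hc.max y hc.real hc.ycomm w hwZ (commute_of_sq hc.real.2.1 h6)
    have hhw : Commute w (h : L) := mem_centralizer_iff.1 hh w hwE
    have hstep : (h : L) * z * (h : L)⁻¹ = z * w := by
      rw [hw, ← mul_assoc z z, hz.2.1, one_mul, hz']
    have hpow : ∀ n : ℕ, (h : L) ^ n * z * ((h : L) ^ n)⁻¹ = z * w ^ n := by
      intro n
      induction n with
      | zero => simp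
      | succ n ih =>
        calc (h : L) ^ (n + 1) * z * ((h : L) ^ (n + 1))⁻¹
            = (h : L) * ((h : L) ^ n * z * ((h : L) ^ n)⁻¹) * (h : L)⁻¹ := by
              rw [pow_succ']; group
          _ = (h : L) * z * (h : L)⁻¹ * ((h : L) * w ^ n * (h : L)⁻¹) := by rw [ih]; group
          _ = z * w * w ^ n := by
              rw [hstep, (hhw.symm.pow_right n).eq, mul_inv_cancel_right]
          _ = z * w ^ (n + 1) := by rw [pow_succ', mul_assoc]
    obtain ⟨a, m, hm, hhm⟩ :=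
      Nat.exists_eq_pow_mul_and_not_dvd (orderOf_pos (h : L)).ne' 2 (by norm_num)
    have hmS : (h : L) ^ m ∈ (S : Subgroup L) := by
      refine mem_of_smul_eq (k := a) ?_ ?_
      · rw [orderOf_pow, hhm, Nat.gcd_eq_right (Dvd.intro_left _ rfl), Nat.mul_div_cancel _
          (Nat.pos_of_ne_zero fun e => hm (by rw [e]; exact dvd_zero 2))]
      · have : ∀ n : ℕ, (h : L) ^ n • S = S := by
          intro n
          induction n with
          | zero => rw [pow_zero, one_smul]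
          | succ n ih => rw [pow_succ, mul_smul, hfixS, ih]
        exact this m
    have hwm : w ^ m = 1 := by
      have h7 := hpow m
      rw [(hz.2.2 _ hmS).eq, mul_inv_cancel_right] at h7
      exact (mul_eq_left.1 h7.symm)
    obtain ⟨i, hi⟩ := Nat.not_even_iff_odd.1 fun he => hm (even_iff_two_dvd.1 he)
    rw [hi, pow_succ, pow_mul, sq, hwZ.2.1, one_pow, one_mul] at hwm
    show z' = z
    exact (eq_inv_of_mul_eq_one_right hwm).trans (inv_eq_of_mul_eq_one_right hz.2.1)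
  by_contra hno
  push Not at hno
  obtain ⟨a, ha, c, hcz, he⟩ := ZStar.exists_mul_centralizer hiso
    (⟨y, mem_centralizer_iff.2 hc.ycomm⟩ : H)
  refine hzE (hc.max y hc.real hc.ycomm z hz ?_)
  have h2 : y = (a : L) * (c : L) := congrArg Subtype.val he
  rw [h2]
  exact (hno (a : L) ⟨a, ha, rfl⟩).symm.mul_right
    (congrArg Subtype.val (mem_centralizer_singleton_iff.1 hcz).symm)

theorem false_of_config : False := by
  classical
  have : Fact (Nat.Prime 2) := ⟨Nat.prime_two⟩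
  set H := centralizer (E : Set L) with hH
  set O := (Cfsg.oddCore ↥H).map H.subtype with hO
  have hOH : O ≤ H := map_subtype_le _
  have hOodd : Odd (Nat.card O) := by
    rw [hO, card_map_of_injective Subtype.val_injective]
    exact CfsgLib.Base.odd_card_oddCore H
  have hOnorm : H ≤ normalizer (O : Set L) := by
    have : (Cfsg.oddCore ↥H).Normal := inferInstance
    intro h hh
    rw [mem_normalizer_iff]
    intro n
    constructor
    · rintro ⟨o, ho, rfl⟩
      exact ⟨⟨h, hh⟩ * o * ⟨h, hh⟩⁻¹, this.conj_mem o ho _, rfl⟩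
    · rintro ⟨o, ho, he⟩
      refine ⟨⟨h, hh⟩⁻¹ * o * (⟨h, hh⟩⁻¹)⁻¹, this.conj_mem o ho _, ?_⟩
      simp only [coe_subtype] at he
      simp [he, mul_assoc]
  -- some conjugate of `E` under the normaliser of `S` differs from `E`
  obtain ⟨n, hn, e, he, hne⟩ : ∃ n : L, n • S = S ∧ ∃ e ∈ E, n * e * n⁻¹ ∉ E := by
    by_contra hall
    push Not at hall
    have hEbot : E = ⊥ := by
      have htop : normalClosure ({y} : Set L) = ⊤ :=
        (K.normal_cases normalClosure_normal).resolve_left fun h => hc.real.1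
          (by simpa [h] using subset_normalClosure (s := ({y} : Set L)) rfl)
      have hle : normalClosure ({y} : Set L) ≤ centralizer (E : Set L) := by
        refine (closure_le _).2 ?_
        intro x hx
        obtain ⟨_, rfl, hconj⟩ := Group.mem_conjugatesOfSet_iff.1 hx
        obtain ⟨c, rfl⟩ := isConj_iff.1 hconj
        obtain ⟨n, hn, hnc⟩ := K.exists_normalizer_conj hc.real S c
        refine mem_centralizer_iff.2 fun e he => ?_
        have h1 := (hc.ycomm _ (hall n⁻¹ (by rw [inv_smul_eq_iff, hn]) e he)).map (MulAut.conj n)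
        simp only [MulAut.conj_apply] at h1
        rw [hnc]
        simpa [mul_assoc] using h1.eq
      rw [eq_bot_iff, ← K.center_eq_bot]
      intro e he
      exact mem_center_iff.2 fun x =>
        (mem_centralizer_iff.1 (hle (htop ▸ mem_top x)) e he).symm
    obtain ⟨z, hz, hz1⟩ := (Subgroup.ne_bot_iff_exists_ne_one).1
      (zInv_ne_bot S (K.sylow_ne_bot S)) |> fun ⟨w, hw⟩ =>
        (⟨w.1, w.2, fun h => hw (Subtype.ext h)⟩ : ∃ z, z ∈ zInv S ∧ z ≠ 1)
    obtain ⟨o, ho, hoz⟩ := K.exists_moved hc hz (by rwa [hEbot, mem_bot])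
    have htopH : H = ⊤ := by
      rw [hH, hEbot, eq_top_iff]
      intro x _
      exact mem_centralizer_iff.2 fun w hw => by
        rw [SetLike.mem_coe, mem_bot] at hw; simp [hw]
    have hOn : O.Normal := normalizer_eq_top_iff.1 (eq_top_iff.2 (htopH ▸ hOnorm))
    rcases K.normal_cases hOn with h | h
    · rw [← hH, ← hO, h, mem_bot] at ho
      exact hoz (ho ▸ Commute.one_left z)
    · refine K.nonsolvable (CfsgLib.FT.isSolvable_of_odd ?_)
      rw [h, card_top] at hOodd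
      exact hOodd
  -- the group `E' = n E n⁻¹`
  obtain ⟨b, hb⟩ : ∃ b, b = n * e * n⁻¹ := ⟨_, rfl⟩
  rw [← hb] at hne
  have hbZ : b ∈ zInv S := by
    have := zInv_smul (hc.le he) n
    rwa [hn, ← hb] at this
  obtain ⟨a, haE, hanE⟩ : ∃ a ∈ E, n⁻¹ * a * n ∉ E := by
    by_contra hall
    push Not at hall
    have hle : E ≤ E.map (MulAut.conj n).toMonoidHom := fun a ha =>
      ⟨_, hall a ha, by simp [mul_assoc]⟩
    have heq := Subgroup.eq_of_le_of_card_ge hle
      (card_map_of_injective (MulAut.conj n).injective).le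
    exact hne (heq ▸ ⟨e, he, by simp [hb]⟩)
  have hninv : n⁻¹ • S = S := by rw [inv_smul_eq_iff, hn]
  have hconjZ : ∀ v ∈ zInv S, n⁻¹ * v * n ∈ zInv S := by
    intro v hv
    have := zInv_smul hv n⁻¹
    rwa [hninv, inv_inv] at this
  -- a hyperplane of `Z` outside which everything moves `O(C(E))`
  have hfixO : ∀ β ∈ zInv S, β ∉ E → ∀ o ∈ O, Commute o β → ∀ s ∈ zInv S, Commute o s := by
    intro β hβ hβE o ho hoβ s hs
    have hfix : o • S = S := by
      refine K.unique hc hβ hβE (smul_le hc (hOH ho)) (mem_smul.2 ?_)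
      rw [mul_assoc, ← hoβ.eq, inv_mul_cancel_left]
      exact hβ.1
    have h1 : o * s * o⁻¹ * s⁻¹ ∈ (S : Subgroup L) := by
      refine mul_mem ?_ (inv_mem hs.1)
      have h0 := (zInv_smul hs o).1
      rwa [hfix] at h0
    have h2 : o * s * o⁻¹ * s⁻¹ ∈ O := by
      have := (mem_normalizer_iff.1 (hOnorm (sylow_le hc hs.1)) o⁻¹).1 (inv_mem ho)
      rw [mul_assoc o s, mul_assoc o]
      exact mul_mem ho this
    obtain ⟨i, hi⟩ := IsPGroup.iff_orderOf.1 S.2 ⟨_, h1⟩
    rw [Subgroup.orderOf_mk] at hi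
    have h3 : Odd (orderOf (o * s * o⁻¹ * s⁻¹)) := Odd.of_dvd_nat hOodd (by
      rw [← Subgroup.orderOf_mk _ h2]
      exact orderOf_dvd_natCard _)
    have h4 : o * s * o⁻¹ * s⁻¹ = 1 := by
      rcases i with _ | i
      · exact orderOf_eq_one_iff.1 (by simpa using hi)
      · rw [hi] at h3
        exact absurd h3 (Nat.not_odd_iff_even.2 ⟨2 ^ i, by ring⟩)
    exact mul_inv_eq_iff_eq_mul.1 (mul_inv_eq_one.1 h4)
  obtain ⟨o, hoO, hob⟩ := K.exists_moved hc hbZ hne
  have hZH : zInv S ≤ H := fun v hv => sylow_le hc hv.1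
  have hhyp : ∀ v ∈ zInv S, v ∈ E ∨ v * b ∈ E := by
    have : IsMulCommutative (zInv S) :=
      ⟨⟨fun u v => Subtype.ext (zInv_commute u.2 v.2)⟩⟩
    have hcop : (Nat.card (zInv S)).Coprime (Nat.card O) := by
      obtain ⟨i, hi⟩ := IsPGroup.iff_card.1 (S.2.to_le (zInv_le S))
      rw [hi]
      exact Nat.Coprime.pow_left _ (Nat.coprime_two_left.2 hOodd)
    have hnot : ¬ ∀ B : Subgroup L, B ≤ zInv S → (∃ a ∈ zInv S, B ⊔ zpowers a = zInv S) →
        O ⊓ centralizer (B : Set L) ≤ centralizer (zInv S : Set L) := fun h => hob (by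
      have h1 := CfsgLib.Coprime.le_of_cyclic_quotient
        (fun v hv => hOnorm (hZH hv)) hcop h hoO
      exact (mem_centralizer_iff.1 h1 b hbZ).symm)
    push Not at hnot
    obtain ⟨B, hB, ⟨a₀, ha₀, hBa⟩, hnle⟩ := hnot
    obtain ⟨w, hw, hwn⟩ := SetLike.not_le_iff_exists.1 hnle
    have hBE : B ≤ E := by
      intro β hβ
      by_contra hβE
      refine hwn (mem_centralizer_iff.2 fun s hs => ?_)
      exact (hfixO β (hB hβ) hβE w (mem_inf.1 hw).1
        (mem_centralizer_iff.1 (mem_inf.1 hw).2 β hβ).symm s hs).symm.eq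
    have hdec : ∀ v ∈ zInv S, v ∈ E ∨ ∃ β ∈ E, v = β * a₀ := by
      intro v hv
      rw [← hBa, zpowers_eq_closure] at hv
      have hle : zpowers a₀ ≤ normalizer (B : Set L) := by
        refine le_trans ?_ (centralizer_le_normalizer _)
        rw [zpowers_le]
        exact mem_centralizer_iff.2 fun β hβ => (zInv_commute (hB hβ) ha₀).eq
      rw [← zpowers_eq_closure, ← SetLike.mem_coe,
        coe_mul_of_right_le_normalizer_left B (zpowers a₀) hle] at hv
      obtain ⟨β, hβ, _, ⟨i, rfl⟩, rfl⟩ := hv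
      simp only
      rcases Int.even_or_odd i with ⟨j, rfl⟩ | ⟨j, rfl⟩
      · left
        rw [← two_mul, zpow_mul, zpow_two, ha₀.2.1, one_zpow, mul_one]
        exact hBE hβ
      · right
        exact ⟨β, hBE hβ, by rw [zpow_add_one, zpow_mul, zpow_two, ha₀.2.1, one_zpow, one_mul]⟩
    intro v hv
    rcases hdec v hv with h | ⟨β, hβ, rfl⟩
    · exact Or.inl h
    rcases hdec b hbZ with h | ⟨β', hβ', hbe⟩
    · exact absurd h hne
    right
    rw [hbe]
    have : β * a₀ * (β' * a₀) = β * β' := by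
      rw [mul_assoc β a₀, ← mul_assoc a₀ β', (zInv_commute ha₀ (hc.le hβ')).eq, mul_assoc β' a₀,
        ha₀.2.1, mul_one]
    rw [this]
    exact mul_mem hβ hβ'
  -- an element of prime order in `O` inverted by `b`
  have hbb := hbZ.2.1
  have hbi : b⁻¹ = b := inv_eq_of_mul_eq_one_right hbb
  set d := o⁻¹ * b * o * b with hd
  have hdO : d ∈ O := by
    have := (mem_normalizer_iff.1 (hOnorm (hZH hbZ)) o).1 hoO
    rw [hbi] at this
    rw [hd, mul_assoc (o⁻¹ * b), mul_assoc o⁻¹, ← mul_assoc b]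
    exact mul_mem (inv_mem hoO) this
  have hdinv : b * d * b⁻¹ = d⁻¹ := by
    rw [hd, mul_inv_rev, mul_inv_rev, mul_inv_rev, inv_inv, hbi]
    simp only [mul_assoc, hbb, mul_one]
  have hd1 : d ≠ 1 := by
    intro h
    refine hob ?_
    have : o⁻¹ * b * o = b := by
      rw [hd] at h
      rw [eq_inv_of_mul_eq_one_left h, hbi]
    show o * b = b * o
    calc o * b = o * (o⁻¹ * b * o) := by rw [this]
      _ = b * o := by group
  have hdo : Odd (orderOf d) := Odd.of_dvd_nat hOodd (by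
    rw [← Subgroup.orderOf_mk _ hdO]; exact orderOf_dvd_natCard _)
  obtain ⟨i, p, hp, hp2, hyp⟩ := exists_pow_prime hd1 hdo
  set y₂ := d ^ i with hy₂
  have hby : b * y₂ * b⁻¹ = y₂⁻¹ := inv_pow_of_inverted hdinv i
  have hy₂odd : Odd (orderOf y₂) := hyp ▸ hp.odd_of_ne_two hp2
  have hEy : ∀ v ∈ E, v * y₂ * v⁻¹ = y₂ := fun v hv => by
    rw [mem_centralizer_iff.1 (hOH (pow_mem hdO i)) v hv, mul_inv_cancel_right]
  have hZy : ∀ v ∈ zInv S, (v ∈ E ∧ v * y₂ * v⁻¹ = y₂) ∨ (v ∉ E ∧ v * y₂ * v⁻¹ = y₂⁻¹) := by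
    intro v hv
    by_cases hvE : v ∈ E
    · exact Or.inl ⟨hvE, hEy v hvE⟩
    refine Or.inr ⟨hvE, ?_⟩
    have hvb := (hhyp v hv).resolve_left hvE
    calc v * y₂ * v⁻¹ = (v * b) * (b⁻¹ * y₂ * b) * (v * b)⁻¹ := by group
      _ = (v * b) * y₂⁻¹ * (v * b)⁻¹ := by
        conv_lhs => rw [show b⁻¹ * y₂ * b = b * y₂ * b⁻¹ by rw [hbi], hby]
      _ = y₂⁻¹ := by rw [← conj_inv, hEy _ hvb]
  set y' := n * y₂ * n⁻¹ with hy'
  have hy'p : orderOf y' = p := by rw [hy', orderOf_conj_eq, hyp]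
  have hZy' : ∀ v ∈ zInv S, v * y' * v⁻¹ = y' ∨ v * y' * v⁻¹ = y'⁻¹ := by
    intro v hv
    have e1 : v * y' * v⁻¹ = n * ((n⁻¹ * v * n) * y₂ * (n⁻¹ * v * n)⁻¹) * n⁻¹ := by
      rw [hy']; group
    rcases hZy _ (hconjZ v hv) with ⟨-, h⟩ | ⟨-, h⟩
    · left; rw [e1, h, hy']
    · right; rw [e1, h, hy', conj_inv]
  have hay' : a * y' * a⁻¹ = y'⁻¹ := by
    have e1 : a * y' * a⁻¹ = n * ((n⁻¹ * a * n) * y₂ * (n⁻¹ * a * n)⁻¹) * n⁻¹ := by
      rw [hy']; group
    rcases hZy _ (hconjZ a (hc.le haE)) with ⟨h, -⟩ | ⟨-, h⟩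
    · exact absurd h hanE
    · rw [e1, h, hy', conj_inv]
  have hby' : b * y' * b⁻¹ = y' := by
    calc b * y' * b⁻¹ = n * (e * y₂ * e⁻¹) * n⁻¹ := by rw [hy', hb]; group
      _ = y' := by rw [hEy e he, hy']
  have hy'real : RealOdd y' :=
    realOdd_of_inverted (fun h => hp.ne_one (by rw [← hy'p, h, orderOf_one]))
      (hy'p ▸ hp.odd_of_ne_two hp2) hay'
  have ha2 : orderOf a = 2 := orderOf_zInv (hc.le haE) (fun h => hanE (by simp [h]))
  have hay₂ : Commute a y₂ := mul_inv_eq_iff_eq_mul.1 (hEy a haE)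
  obtain ⟨r, hra, hry, hrS⟩ := K.exists_conj_sylow ha2 hy'real hay' (hc.le haE).1
    (T := y₂ • S) (mem_smul.2 (by
      rw [mul_assoc, hay₂.eq, inv_mul_cancel_left]; exact (hc.le haE).1))
  have hb₁ : (r⁻¹ * y₂) * b * (r⁻¹ * y₂)⁻¹ ∈ zInv S := by
    have := zInv_smul hbZ (r⁻¹ * y₂)
    rwa [mul_smul, ← hrS, inv_smul_smul] at this
  have hpm : y₂ ^ 2 * y' * (y₂ ^ 2)⁻¹ = y' ∨ y₂ ^ 2 * y' * (y₂ ^ 2)⁻¹ = y'⁻¹ := by
    have hbyb : b * y₂⁻¹ * b = y₂ := by
      have := congrArg (·⁻¹) hby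
      simp only [inv_inv, mul_inv_rev, hbi, ← mul_assoc] at this
      exact this
    have e2 : y₂ ^ 2 = y₂ * b * y₂⁻¹ * b := by
      rw [sq, mul_assoc (y₂ * b), mul_assoc y₂, ← mul_assoc b, hbyb]
    have e3 : y₂ ^ 2 * y' * (y₂ ^ 2)⁻¹ =
        r * ((r⁻¹ * y₂ * b * (r⁻¹ * y₂)⁻¹) * (r⁻¹ * y' * r) *
          (r⁻¹ * y₂ * b * (r⁻¹ * y₂)⁻¹)⁻¹) * r⁻¹ := by
      calc y₂ ^ 2 * y' * (y₂ ^ 2)⁻¹
          = (y₂ * b * y₂⁻¹) * (b * y' * b⁻¹) * (y₂ * b * y₂⁻¹)⁻¹ := by rw [e2]; group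
        _ = (y₂ * b * y₂⁻¹) * y' * (y₂ * b * y₂⁻¹)⁻¹ := by rw [hby']
        _ = _ := by group
    have hr' : r⁻¹ * y' * r = y' := by rw [mul_assoc, ← hry.eq, inv_mul_cancel_left]
    rw [e3, hr']
    rcases hZy' _ hb₁ with h | h <;> rw [h]
    · left; rw [hry.eq, mul_inv_cancel_right]
    · right; rw [hry.inv_right.eq, mul_inv_cancel_right]
  have hcomm : Commute y' y₂ := by
    refine commute_of_sq hy₂odd (commute_of_sq (hy₂odd.of_dvd_nat (orderOf_pow_dvd 2)) ?_)
    rcases hpm with h | h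
    · have h3 : Commute (y₂ ^ 2) y' := mul_inv_eq_iff_eq_mul.1 h
      exact (h3.pow_left 2).symm
    · show y' * (y₂ ^ 2) ^ 2 = (y₂ ^ 2) ^ 2 * y'
      have h2 : (y₂ ^ 2) ^ 2 * y' * ((y₂ ^ 2) ^ 2)⁻¹ = y' := by
        calc (y₂ ^ 2) ^ 2 * y' * ((y₂ ^ 2) ^ 2)⁻¹
            = y₂ ^ 2 * (y₂ ^ 2 * y' * (y₂ ^ 2)⁻¹) * (y₂ ^ 2)⁻¹ := by group
          _ = y' := by rw [h, ← conj_inv, h, inv_inv]
      exact (mul_inv_eq_iff_eq_mul.1 h2).symm
  have hab : Commute a b := zInv_commute (hc.le haE) hbZ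
  have hab2 : orderOf (a * b) = 2 := orderOf_zInv (mul_mem (hc.le haE) hbZ) fun h => hne (by
    rw [← eq_inv_of_mul_eq_one_right h |>.trans (invol_inv ha2)] at haE
    exact haE)
  have hi1 : a * b * y₂ * (a * b)⁻¹ = y₂⁻¹ := by
    calc a * b * y₂ * (a * b)⁻¹ = a * (b * y₂ * b⁻¹) * a⁻¹ := by group
      _ = y₂⁻¹ := by rw [hby, ← conj_inv, hEy a haE]
  have hi2 : a * b * y' * (a * b)⁻¹ = y'⁻¹ := by
    calc a * b * y' * (a * b)⁻¹ = a * (b * y' * b⁻¹) * a⁻¹ := by group
      _ = y'⁻¹ := by rw [hby', hay']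
  obtain ⟨j, hj⟩ := mem_zpowers_iff.1
    (K.noPair (a * b) y₂ y' p hab2 hp hp2 hyp hy'p hcomm.symm hi1 hi2)
  have h5 : a * y' * a⁻¹ = y' := by rw [← hj, (hay₂.zpow_right j).eq, mul_inv_cancel_right]
  have h6 : y' ^ 2 = 1 := by
    rw [sq]; nth_rw 1 [← h5]; rw [hay', inv_mul_cancel]
  exact hp2 ((Nat.prime_dvd_prime_iff_eq hp Nat.prime_two).1 (hy'p ▸ orderOf_dvd_of_pow_eq_one h6))

omit hc in
/-- The configuration does not exist. -/
theorem false : False := by
  obtain ⟨S⟩ := (inferInstance : Nonempty (Sylow 2 L))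
  obtain ⟨E, y, g, hc⟩ := K.exists_config S
  exact K.false_of_config hc

end Setup

end CfsgLib.FgsD.RealGraph
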