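import Cfsg.Agent.Lib.FgsD.RealGraph.Minimal
import Cfsg.Agent.Lib.FgsD.RealGraph.Simple
import Cfsg.Agent.Lib.FgsD.RealGraph.Radical

/-!
# Split real class sizes force solvability
-/

set_option autoImplicit false
set_option linter.unusedSectionVars false

namespace CfsgLib.FgsD.RealGraph

open Subgroup CfsgLib.FgsC.PrimeClasses CfsgLib.FgsC.DiscGraph

universe u

theorem isSolvable_of_witness_aux (π : Set ℕ) (n : ℕ) : ∀ (G : Type u) [Group G] [Finite G],
    Nat.card G = n → Split G π → ∀ t : G, Witness π t → Group.IsSolvable G := by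
  induction n using Nat.strong_induction_on with
  | _ n ih =>
    intro G _ _ hn D t₀ ht₀
    by_contra hns
    have hIH : SmallerSolvable.{u} π (Nat.card G) := fun H _ _ hlt DH t ht =>
      ih (Nat.card H) (hn ▸ hlt) H rfl DH t ht
    obtain ⟨V, t, S, hVn, hVne, hsq, hmin, hfpf, ht, htV, hS⟩ := D.exists_module hIH hns ht₀
    obtain ⟨hperf, R, hRn, hRs, hCR, hsimple, hQns⟩ :=
      D.exists_radical hIH hns hVn hmin hfpf ht htV
    have hV : FpfModule V := ⟨hVn, hVne, hsq, fun v hv w hw => by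
      show v * w = w * v
      have h := hsq _ (mul_mem hv hw)
      rw [← inv_eq_of_mul_eq_one_right h, mul_inv_rev, inv_eq_of_mul_eq_one_right (hsq v hv),
        inv_eq_of_mul_eq_one_right (hsq w hw)], hmin, hfpf⟩
    have K : Setup (G ⧸ R) :=
      { simple := hsimple
        nonsolvable := hQns
        trans := fun x hx P Q => D.trans_quotient ht hS R
          (fun xb hxb => exists_realOdd_lift R hRs hxb) x hx P Q
        noPair := fun u a b p hu hp hp2 ha hb hab hua hub =>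
          noPair_quotient hV hperf R hRs hCR u a b p hu hp hp2 ha hb hab hua hub }
    exact K.false

/-- A finite group whose real class sizes split, with a nontrivial size on the odd side, is
solvable. -/
theorem isSolvable_of_witness {G : Type u} [Group G] [Finite G] {π : Set ℕ} (D : Split G π) {t : G}
    (ht : Witness π t) : Group.IsSolvable G :=
  isSolvable_of_witness_aux π (Nat.card G) G rfl D t ht

theorem exists_split_aux {G : Type u} [Group G] [Finite G] (π π' : Set ℕ) (hne : π.Nonempty)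
    (hne' : π'.Nonempty)
    (hcover : ∀ q : ℕ, q.Prime → (∃ x : G, IsReal x ∧ q ∣ sz x) → q ∈ π ∨ q ∈ π')
    (hsub : ∀ q ∈ π ∪ π', q.Prime ∧ ∃ x : G, IsReal x ∧ q ∣ sz x) (hdisj : Disjoint π π')
    (hnoedge : ∀ a ∈ π, ∀ b ∈ π', ∀ x : G, IsReal x → ¬ (a ∣ sz x ∧ b ∣ sz x)) (h2 : 2 ∉ π) :
    ∃ (π : Set ℕ) (t : G), Split G π ∧ Witness π t ∧
      ∃ y : G, IsReal y ∧ OutS π (sz y) ∧ sz y ≠ 1 := by
  have hpure : ∀ x : G, IsReal x → InS π (sz x) ∨ OutS π (sz x) := by
    intro x hx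
    by_contra h
    rw [not_or] at h
    obtain ⟨h1, h3⟩ := h
    simp only [InS, OutS] at h1 h3
    push Not at h1 h3
    obtain ⟨r, hr, hrx, hrπ⟩ := h1
    obtain ⟨q, hq, hqx, hqπ⟩ := h3
    rcases hcover r hr ⟨x, hx, hrx⟩ with h | h
    · exact hrπ h
    · exact hnoedge q hqπ r h x hx ⟨hqx, hrx⟩
  have D : Split G π := ⟨h2, hpure⟩
  obtain ⟨q, hq⟩ := hne
  obtain ⟨hqp, t, htr, hqt⟩ := hsub q (Or.inl hq)
  have hin : InS π (sz t) := (hpure t htr).resolve_right fun h => h q hqp hqt hq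
  have hne1 : sz t ≠ 1 := fun h => hqp.ne_one (Nat.dvd_one.1 (h ▸ hqt))
  obtain ⟨r, hr⟩ := hne'
  obtain ⟨hrp, y, hy, hry⟩ := hsub r (Or.inr hr)
  refine ⟨π, t, D, ⟨CfsgLib.Involutions.invol_iff.2
    ⟨sq_eq_one_of_odd htr (D.odd_of_inS hin), fun h => hne1 ?_⟩, hin, hne1⟩,
    y, hy, (hpure y hy).resolve_left fun h => Set.disjoint_left.1 hdisj (h r hrp hry) hr,
    fun h => hrp.ne_one (Nat.dvd_one.1 (h ▸ hry))⟩
  rw [sz_eq_one_iff, h]
  exact one_mem _

/-- The hypotheses of a disconnected real class size graph give a splitting, a witness and an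
element on the other side. -/
theorem exists_split {G : Type u} [Group G] [Finite G] (π₁ π₂ : Set ℕ) (h₁ : π₁.Nonempty)
    (h₂ : π₂.Nonempty)
    (hcover : ∀ q : ℕ, q.Prime → (∃ x : G, IsReal x ∧ q ∣ sz x) → q ∈ π₁ ∨ q ∈ π₂)
    (hsub : ∀ q ∈ π₁ ∪ π₂, q.Prime ∧ ∃ x : G, IsReal x ∧ q ∣ sz x) (hdisj : Disjoint π₁ π₂)
    (hnoedge : ∀ a ∈ π₁, ∀ b ∈ π₂, ∀ x : G, IsReal x → ¬ (a ∣ sz x ∧ b ∣ sz x)) :
    ∃ (π : Set ℕ) (t : G), Split G π ∧ Witness π t ∧
      ∃ y : G, IsReal y ∧ OutS π (sz y) ∧ sz y ≠ 1 := by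
  by_cases h2 : 2 ∈ π₂
  · exact exists_split_aux π₁ π₂ h₁ h₂ hcover hsub hdisj hnoedge
      (fun h => Set.disjoint_left.1 hdisj h h2)
  · exact exists_split_aux π₂ π₁ h₂ h₁ (fun q hq hx => (hcover q hq hx).symm)
      (fun q hq => hsub q (Or.symm hq)) hdisj.symm
      (fun a ha b hb x hx h => hnoedge b hb a ha x hx h.symm) h2

end CfsgLib.FgsD.RealGraph
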