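import Cfsg.Agent.Lib.FgsD.RealGraph.Reduce
import Cfsg.Agent.Lib.Base.MinimalNormal
import Cfsg.Agent.Lib.PGroups.Basic

/-!
# A nonsolvable group with split real class sizes of minimal order
-/

set_option autoImplicit false
set_option linter.unusedSectionVars false

open scoped Pointwise

namespace CfsgLib.FgsD.RealGraph

open Subgroup CfsgLib.Involutions CfsgLib.FgsC.PrimeClasses CfsgLib.FgsC.DiscGraph

universe u

/-- Every smaller group with split real class sizes and a witness is solvable. -/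
def SmallerSolvable (π : Set ℕ) (n : ℕ) : Prop :=
  ∀ (H : Type u) [Group H] [Finite H], Nat.card H < n → Split H π →
    ∀ t : H, Witness π t → Group.IsSolvable H

variable {G : Type u} [Group G] [Finite G] {π : Set ℕ}

theorem isSolvable_of_quotient (N : Subgroup G) [N.Normal] (h1 : Group.IsSolvable N)
    (h2 : Group.IsSolvable (G ⧸ N)) : Group.IsSolvable G :=
  (Group.isSolvable_iff_subgroup_quotient N).2 ⟨h1, h2⟩

theorem exists_realOdd (hns : ¬ Group.IsSolvable G) : ∃ x : G, RealOdd x := by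
  by_contra h
  push Not at h
  have := isSolvable_of_no_realOdd (⊤ : Subgroup G) fun x _ => h x
  exact hns (Group.isSolvable_of_surjective (f := (Subgroup.topEquiv (G := G)).toMonoidHom) Subgroup.topEquiv.surjective)

namespace Split

variable (D : Split G π)
include D

/-- There is no nontrivial abelian normal subgroup of odd order. -/
theorem eq_one_of_odd_abelian (hIH : SmallerSolvable.{u} π (Nat.card G))
    (hns : ¬ Group.IsSolvable G) {t : G} (ht : Witness π t) (A : Subgroup G) (hA : A.Normal)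
    (hab : ∀ a ∈ A, ∀ b ∈ A, Commute a b) (a : G) (ha : a ∈ A) (ho : Odd (orderOf a)) : a = 1 := by
  classical
  have : Fact (Nat.Prime 2) := ⟨Nat.prime_two⟩
  -- the elements of odd order of `A`
  let B : Subgroup G :=
    { carrier := {b | b ∈ A ∧ Odd (orderOf b)}
      one_mem' := ⟨one_mem A, by simp⟩
      mul_mem' := fun {b c} hb hc => ⟨mul_mem hb.1 hc.1,
        Odd.of_dvd_nat (hb.2.mul hc.2) (hab b hb.1 c hc.1).orderOf_mul_dvd_mul_orderOf⟩
      inv_mem' := fun {b} hb => ⟨inv_mem hb.1, by rw [orderOf_inv]; exact hb.2⟩ }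
  have hBn : B.Normal :=
    ⟨fun b hb g => ⟨hA.conj_mem b hb.1 g, by rw [orderOf_conj_eq]; exact hb.2⟩⟩
  by_contra ha1
  have hBodd : Odd (Nat.card B) := by
    rw [← Nat.not_even_iff_odd, even_iff_two_dvd]
    intro h2
    obtain ⟨b, hb⟩ := exists_prime_orderOf_dvd_card' 2 h2
    have := b.2.2
    rw [orderOf_coe, hb] at this
    exact absurd this (by decide)
  have hBs : Group.IsSolvable B :=
    Group.isSolvable_of_comm fun b c => Subtype.ext (hab b b.2.1 c c.2.1).eq
  have hlt : Nat.card (G ⧸ B) < Nat.card G := by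
    rw [B.card_eq_card_quotient_mul_card_subgroup]
    refine lt_mul_of_one_lt_right Nat.card_pos (B.one_lt_card_iff_ne_bot.2 fun h => ?_)
    exact ha1 ((mem_bot).1 (h ▸ (show a ∈ B from ⟨ha, ho⟩)))
  have hQ : ¬ Group.IsSolvable (G ⧸ B) := fun h => hns (isSolvable_of_quotient B hBs h)
  set f := QuotientGroup.mk' B with hf
  have hfs : Function.Surjective f := QuotientGroup.mk'_surjective B
  have htB : t ∉ B := fun h => by
    have := h.2
    rw [ht.ord] at this
    exact absurd this (by decide)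
  have hto : orderOf (f t) = 2 := orderOf_eq_prime (by
    rw [← map_pow, sq, invol_mul_self ht.ord, map_one]) fun h => htB ((QuotientGroup.eq_one_iff t).1 h)
  by_cases hone : sz (f t) = 1
  · -- then `G = B C(t)`
    refine hQ ?_
    have hcs := D.isSolvable_cent ht
    refine Group.isSolvable_of_surjective (f := f.comp (centralizer ({t} : Set G)).subtype) ?_
    intro gb
    obtain ⟨g, rfl⟩ := hfs gb
    have hd : g * t * g⁻¹ * t ∈ B := by
      rw [← QuotientGroup.eq_one_iff]
      show f (g * t * g⁻¹ * t) = 1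
      simp only [map_mul, map_inv]
      rw [mem_center_iff.1 ((sz_eq_one_iff _).1 hone) (f g), mul_inv_cancel_right, ← map_mul,
        invol_mul_self ht.ord, map_one]
    obtain ⟨j, hj⟩ := exists_zpow_sq_eq hd.2
    have hinv : t * (g * t * g⁻¹ * t) * t⁻¹ = (g * t * g⁻¹ * t)⁻¹ := by
      rw [invol_inv ht.ord]
      simp only [mul_inv_rev, invol_inv ht.ord, inv_inv, mul_assoc, invol_mul_self ht.ord, mul_one]
    set e := (g * t * g⁻¹ * t) ^ j with he
    have he2 : e * t * e⁻¹ = g * t * g⁻¹ := by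
      have h1 : t * e * t⁻¹ = e⁻¹ := inv_zpow_of_inverted hinv j
      calc e * t * e⁻¹ = e * (t * e⁻¹ * t⁻¹) * t := by group
        _ = e * e * t := by rw [← conj_inv, h1, inv_inv]
        _ = g * t * g⁻¹ := by rw [← sq, hj, mul_assoc _ t t, invol_mul_self ht.ord, mul_one]
    refine ⟨⟨e⁻¹ * g, mem_cent_iff.2 ?_⟩, ?_⟩
    · show e⁻¹ * g * t = t * (e⁻¹ * g)
      calc e⁻¹ * g * t = e⁻¹ * (g * t * g⁻¹) * g := by group
        _ = e⁻¹ * (e * t * e⁻¹) * g := by rw [he2]
        _ = t * (e⁻¹ * g) := by group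
    · show f (e⁻¹ * g) = f g
      rw [map_mul, map_inv, show f e = 1 from (QuotientGroup.eq_one_iff e).2 (zpow_mem hd j),
        inv_one, one_mul]
  · exact hQ (hIH (G ⧸ B) hlt (D.quotient_odd B hBodd) (f t) ⟨hto, fun q hq hqd =>
      ht.ins q hq (hqd.trans (sz_map_dvd hfs t)), hone⟩)

/-- The minimal normal 2-subgroup without fixed points of real elements, and its witness. -/
theorem exists_module (hIH : SmallerSolvable.{u} π (Nat.card G))
    (hns : ¬ Group.IsSolvable G) {t₀ : G} (ht₀ : Witness π t₀) :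
    ∃ (V : Subgroup G) (t : G) (S : Sylow 2 G), V.Normal ∧ V ≠ ⊥ ∧ (∀ v ∈ V, v * v = 1) ∧
      (∀ W : Subgroup G, W.Normal → W ≤ V → W = ⊥ ∨ W = V) ∧
      (∀ x : G, RealOdd x → ∀ v ∈ V, Commute v x → v = 1) ∧
      Witness π t ∧ t ∈ V ∧ (S : Subgroup G) ≤ centralizer ({t} : Set G) := by
  have : Fact (Nat.Prime 2) := ⟨Nat.prime_two⟩
  obtain ⟨x₀, hx₀⟩ := exists_realOdd hns
  obtain ⟨hsq, hfpf, hcN⟩ := D.elementary ht₀ ⟨x₀, hx₀⟩ fun A hA hab a ha ho =>
    D.eq_one_of_odd_abelian hIH hns ht₀ A hA hab a ha ho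
  have hN := commG_normal ht₀.ord
  obtain ⟨V, hVN, hVmin⟩ := CfsgLib.Base.exists_isMinimalNormal_le ht₀.commG_ne_bot
  have := hVmin.normal
  have hVp : IsPGroup 2 V := fun v => ⟨1, Subtype.ext (by
    rw [pow_one, sq]; exact hsq v (hVN v.2))⟩
  obtain ⟨S, hVS⟩ := hVp.exists_le_sylow
  have hne : V.subgroupOf (S : Subgroup G) ≠ ⊥ := by
    rw [Ne, subgroupOf_eq_bot, disjoint_iff, inf_eq_left.2 hVS]
    exact hVmin.ne_bot
  obtain ⟨s, hs, hs1⟩ := (ne_bot_iff_exists_ne_one).1
    (CfsgLib.PGroups.inf_center_ne_bot S.2 hne) |> fun ⟨w, hw⟩ =>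
      (⟨w.1, w.2, fun h => hw (Subtype.ext h)⟩ :
        ∃ s, s ∈ V.subgroupOf (S : Subgroup G) ⊓ center (S : Subgroup G) ∧ s ≠ 1)
  obtain ⟨hsV, hsZ⟩ := mem_inf.1 hs
  set t : G := (s : G) with htdef
  have htV : t ∈ V := hsV
  have hSC : (S : Subgroup G) ≤ centralizer ({t} : Set G) := fun g hg => mem_cent_iff.2
    (congrArg Subtype.val (mem_center_iff.1 hsZ ⟨g, hg⟩))
  have ht2 : t * t = 1 := hsq t (hVN htV)
  have hto : orderOf t = 2 := invol_iff.2 ⟨ht2, fun h => hs1 (Subtype.ext h)⟩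
  have hodd : Odd (sz t) := by
    rw [← Nat.not_even_iff_odd, even_iff_two_dvd]
    exact fun h => S.not_dvd_index (h.trans (index_dvd_of_le hSC))
  have hfpfV : ∀ x : G, RealOdd x → ∀ v ∈ V, Commute v x → v = 1 := fun x hx v hv =>
    hfpf x hx v (hVN hv)
  have hne1 : sz t ≠ 1 := fun h => invol_ne_one hto
    (hfpfV x₀ hx₀ t htV (mem_center_iff.1 ((sz_eq_one_iff t).1 h) x₀).symm)
  refine ⟨V, t, S, hVmin.normal, hVmin.ne_bot, fun v hv => hsq v (hVN hv), hVmin.2.2, hfpfV,
    ⟨hto, ?_, hne1⟩, htV, hSC⟩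
  refine (D.pure t (isReal_of_sq ht2)).resolve_right fun hout => ?_
  have hcomm : Commute t₀ t := (hcN t (hVN htV)).symm
  have hsqN : ∀ g : G, g * t * g⁻¹ * t * (g * t * g⁻¹ * t) = 1 := fun g =>
    hsq _ (hVN (mul_mem (hVmin.normal.conj_mem t htV g) htV))
  exact false_of_odd_classes hcomm (invol_mul_self ht₀.ord) ht2 (D.odd_of_inS ht₀.ins) hodd
    ht₀.ne_one hne1 (coprime_in_out ht₀.ins hout)
    (sz_mul_dvd D hcomm (invol_mul_self ht₀.ord) ht2 ht₀.ins hout)
    (fun g => hsq _ (conjT_mem_commG t₀ g)) hsqN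

/-- Every proper normal subgroup is solvable. -/
theorem isSolvable_of_normal (hIH : SmallerSolvable.{u} π (Nat.card G)) {V : Subgroup G}
    (hVn : V.Normal) (hmin : ∀ W : Subgroup G, W.Normal → W ≤ V → W = ⊥ ∨ W = V)
    (hfpf : ∀ x : G, RealOdd x → ∀ v ∈ V, Commute v x → v = 1) {t : G} (ht : Witness π t)
    (htV : t ∈ V) {M : Subgroup G} (hM : M.Normal) (hne : M ≠ ⊤) : Group.IsSolvable M := by
  by_contra hns
  obtain ⟨x, hx⟩ := exists_realOdd hns
  have hxG : RealOdd (x : G) := ⟨fun e => hx.1 (Subtype.ext e), by rw [orderOf_coe]; exact hx.2.1,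
    IsReal.map M.subtype hx.2.2⟩
  have hVM : V ≤ M := by
    rcases hmin (V ⊓ M) (haveI := hVn; haveI := hM; Subgroup.normal_inf_normal V M) inf_le_left
      with h | h
    · exact absurd (hfpf x hxG t htV (Subgroup.commute_of_normal_of_disjoint V M hVn hM
        (disjoint_iff.2 h) t x htV x.2)) (invol_ne_one ht.ord)
    · exact inf_eq_left.1 h
  have hto : orderOf (⟨t, hVM htV⟩ : M) = 2 := by rw [← orderOf_coe]; exact ht.ord
  refine hns (hIH M ?_ (D.subgroup M) ⟨t, hVM htV⟩ ⟨hto, fun q hq hqd =>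
    ht.ins q hq (hqd.trans (sz_sub_dvd M ⟨t, hVM htV⟩)), fun h => ?_⟩)
  · exact lt_of_le_of_ne (card_le_card_group M) fun e => hne (M.eq_top_of_card_eq e)
  · have h1 := mem_center_iff.1 ((sz_eq_one_iff _).1 h) x
    exact invol_ne_one ht.ord (hfpf x hxG t htV (congrArg Subtype.val h1).symm)

/-- The group is perfect, has a simple quotient by a solvable normal subgroup containing the
centraliser of the module. -/
theorem exists_radical (hIH : SmallerSolvable.{u} π (Nat.card G)) (hns : ¬ Group.IsSolvable G)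
    {V : Subgroup G} (hVn : V.Normal) (hmin : ∀ W : Subgroup G, W.Normal → W ≤ V → W = ⊥ ∨ W = V)
    (hfpf : ∀ x : G, RealOdd x → ∀ v ∈ V, Commute v x → v = 1) {t : G} (ht : Witness π t)
    (htV : t ∈ V) :
    commutator G = ⊤ ∧ ∃ R : Subgroup G, ∃ _ : R.Normal, Group.IsSolvable R ∧
      centralizer (V : Set G) ≤ R ∧ IsSimpleGroup (G ⧸ R) ∧ ¬ Group.IsSolvable (G ⧸ R) := by
  classical
  have key : ∀ M : Subgroup G, M.Normal → M ≠ ⊤ → Group.IsSolvable M := fun M hM hne =>
    D.isSolvable_of_normal hIH hVn hmin hfpf ht htV hM hne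
  have hperf : commutator G = ⊤ := by
    by_contra hne
    refine hns (isSolvable_of_quotient _ (key _ inferInstance hne) ?_)
    exact Group.isSolvable_of_comm (G := Abelianization G) fun a b => mul_comm a b
  have : Nontrivial G := by
    by_contra h
    rw [not_nontrivial_iff_subsingleton] at h
    exact hns inferInstance
  obtain ⟨R, ⟨hRn, hRne⟩, hmax⟩ := Set.exists_max_image
    {M : Subgroup G | M.Normal ∧ M ≠ ⊤} (fun M => Nat.card M) (Set.toFinite _)
    ⟨⊥, inferInstance, bot_ne_top⟩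
  have hRs := key R hRn hRne
  have hQ : ¬ Group.IsSolvable (G ⧸ R) := fun h => hns (isSolvable_of_quotient R hRs h)
  refine ⟨hperf, R, hRn, hRs, ?_, ?_, hQ⟩
  · have hC : (centralizer (V : Set G)).Normal := haveI := hVn; inferInstance
    have hCs : Group.IsSolvable (centralizer (V : Set G)) :=
      isSolvable_of_no_realOdd _ fun x hx hr =>
        invol_ne_one ht.ord (hfpf x hr t htV (mem_centralizer_iff.1 hx t htV))
    have hsup : R ⊔ centralizer (V : Set G) ≠ ⊤ := by
      intro htop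
      refine hQ (solvable_of_surjective
        (f := (QuotientGroup.mk' R).comp (centralizer (V : Set G)).subtype) ?_)
      intro q
      obtain ⟨g, rfl⟩ := QuotientGroup.mk'_surjective R q
      have hg : g ∈ ((R ⊔ centralizer (V : Set G) : Subgroup G) : Set G) := by
        rw [htop]; trivial
      rw [Subgroup.normal_mul] at hg
      obtain ⟨r, hr, c, hc, rfl⟩ := hg
      refine ⟨⟨c, hc⟩, ?_⟩
      show QuotientGroup.mk' R c = QuotientGroup.mk' R (r * c)
      rw [map_mul, show QuotientGroup.mk' R r = 1 from (QuotientGroup.eq_one_iff r).2 hr, one_mul]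
    have h1 := hmax (R ⊔ centralizer (V : Set G)) ⟨Subgroup.sup_normal _ _, hsup⟩
    have h2 := Subgroup.eq_of_le_of_card_ge (le_sup_left : R ≤ R ⊔ centralizer (V : Set G)) h1
    rw [h2]
    exact le_sup_right
  · have : Nontrivial (G ⧸ R) := by
      by_contra h
      rw [not_nontrivial_iff_subsingleton] at h
      exact hQ inferInstance
    refine ⟨fun M hM => ?_⟩
    have hMn := hM.comap (QuotientGroup.mk' R)
    by_cases htop : M.comap (QuotientGroup.mk' R) = ⊤
    · right
      rw [← map_comap_eq_self_of_surjective (QuotientGroup.mk'_surjective R) M, htop,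
        map_top_of_surjective _ (QuotientGroup.mk'_surjective R)]
    · left
      have hle : R ≤ M.comap (QuotientGroup.mk' R) := by
        intro r hr
        rw [mem_comap, show QuotientGroup.mk' R r = 1 from (QuotientGroup.eq_one_iff r).2 hr]
        exact one_mem M
      have h2 := Subgroup.eq_of_le_of_card_ge hle (hmax _ ⟨hMn, htop⟩)
      rw [← map_comap_eq_self_of_surjective (QuotientGroup.mk'_surjective R) M, ← h2,
        QuotientGroup.map_mk'_self]

/-- Centralisers of real elements are transitive on the Sylow 2-subgroups. -/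
theorem exists_commute_smul {t : G} (ht : Witness π t) {S : Sylow 2 G}
    (hS : (S : Subgroup G) ≤ centralizer ({t} : Set G)) {x : G} (hx : RealOdd x) (g : G) :
    ∃ c : G, Commute c x ∧ c • S = g • S := by
  have : Fact (Nat.Prime 2) := ⟨Nat.prime_two⟩
  obtain ⟨a, b, ha, hb, e⟩ := D.exists_mul hx ht g⁻¹
  refine ⟨b⁻¹, hb.inv_left, ?_⟩
  have hn := D.sylow_cent_normal ht (S.subtype hS)
  rw [Sylow.coe_subtype, normal_subgroupOf_iff_le_normalizer hS] at hn
  have hfix : a⁻¹ • S = S :=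
    Sylow.smul_eq_iff_mem_normalizer.2 (hn (inv_mem (mem_cent_iff.2 ha)))
  rw [show g = b⁻¹ * a⁻¹ by rw [← mul_inv_rev, e, inv_inv], mul_smul, hfix]

/-- The same in a quotient by a subgroup through which real elements of odd order lift. -/
theorem trans_quotient {t : G} (ht : Witness π t) {S : Sylow 2 G}
    (hS : (S : Subgroup G) ≤ centralizer ({t} : Set G)) (R : Subgroup G) [R.Normal]
    (hlift : ∀ xb : G ⧸ R, RealOdd xb → ∃ x : G, RealOdd x ∧ QuotientGroup.mk' R x = xb)
    (xb : G ⧸ R) (hx : RealOdd xb) (P Q : Sylow 2 (G ⧸ R)) :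
    ∃ c : G ⧸ R, Commute c xb ∧ c • P = Q := by
  have : Fact (Nat.Prime 2) := ⟨Nat.prime_two⟩
  obtain ⟨x, hx', rfl⟩ := hlift xb hx
  set f := QuotientGroup.mk' R with hf
  have hfs : Function.Surjective f := QuotientGroup.mk'_surjective R
  set S' := S.mapSurjective hfs with hS'
  have key : ∀ T : Sylow 2 (G ⧸ R), ∃ c, Commute c (f x) ∧ c • S' = T := by
    intro T
    obtain ⟨gb, rfl⟩ := MulAction.exists_smul_eq (G ⧸ R) S' T
    obtain ⟨g, rfl⟩ := hfs gb
    obtain ⟨c, hc, hcS⟩ := D.exists_commute_smul ht hS hx' g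
    refine ⟨f c, hc.map f, ?_⟩
    have h1 : c⁻¹ * g ∈ normalizer ((S : Subgroup G) : Set G) :=
      Sylow.smul_eq_iff_mem_normalizer.1 (by rw [mul_smul, ← hcS, inv_smul_smul])
    have h2 : f (c⁻¹ * g) • S' = S' := Sylow.smul_eq_iff_mem_normalizer.2 (by
      show f (c⁻¹ * g) ∈ normalizer ((((S : Subgroup G).map f) : Subgroup (G ⧸ R)) : Set (G ⧸ R))
      exact le_normalizer_map f ⟨_, h1, rfl⟩)
    conv_lhs => rw [← h2]
    rw [← mul_smul, ← map_mul, mul_inv_cancel_left]
  obtain ⟨c₁, hc₁, rfl⟩ := key P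
  obtain ⟨c₂, hc₂, rfl⟩ := key Q
  exact ⟨c₂ * c₁⁻¹, hc₂.mul_left hc₁.inv_left, by rw [mul_smul, inv_smul_smul]⟩

end Split

end CfsgLib.FgsD.RealGraph
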