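import Cfsg.Agent.Lib.FgsD.RealGraph.ClassTrick

/-!
# Two classes of involutions of odd coprime sizes, and quotients by odd normal subgroups
-/

set_option autoImplicit false
set_option linter.unusedSectionVars false

namespace CfsgLib.FgsD.RealGraph

open Subgroup CfsgLib.Involutions CfsgLib.FgsC.PrimeClasses CfsgLib.FgsC.DiscGraph

variable {G : Type*} [Group G] [Finite G]

/-- An involution cannot act on a class of odd size by translation. -/
theorem not_translate {x e : G} (ho : Odd (sz x)) (h : ∀ z ∈ cls x, z * e ∈ cls x)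
    (he : e * e = 1) (h1 : e ≠ 1) : False := by
  classical
  have : Fact (Nat.Prime 2) := ⟨Nat.prime_two⟩
  let σ : Equiv.Perm (cls x) :=
    ⟨fun z => ⟨(z : G) * e, h z z.2⟩, fun z => ⟨(z : G) * e, h z z.2⟩,
      fun z => Subtype.ext (by simp [mul_assoc, he]), fun z => Subtype.ext (by simp [mul_assoc, he])⟩
  have := Fintype.ofFinite (cls x)
  have hodd : ¬ 2 ∣ Fintype.card (cls x) := by
    rw [← Nat.card_eq_fintype_card, Nat.card_coe_set_eq, ncard_cls, ← even_iff_two_dvd,
      Nat.not_even_iff_odd]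
    exact ho
  obtain ⟨z, hz⟩ := Equiv.Perm.exists_fixed_point_of_prime (p := 2) (n := 1) hodd
    (σ := σ) (Equiv.ext fun z => Subtype.ext (by simp [σ, sq, mul_assoc, he]))
  exact h1 (mul_eq_left.1 (congrArg Subtype.val hz))

/-- Two commuting real classes of odd coprime nontrivial sizes, translated by involutions, force a
real class size mixing the two. -/
theorem false_of_odd_classes {x y : G} (hxy : Commute x y) (hx2 : x * x = 1) (hy2 : y * y = 1)
    (hox : Odd (sz x)) (hoy : Odd (sz y)) (hx1 : sz x ≠ 1) (hy1 : sz y ≠ 1)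
    (hcop : (sz x).Coprime (sz y))
    (hpure : sz (x * y) ∣ sz x ∨ sz (x * y) ∣ sz y)
    (hsqx : ∀ g : G, g * x * g⁻¹ * x * (g * x * g⁻¹ * x) = 1)
    (hsqy : ∀ g : G, g * y * g⁻¹ * y * (g * y * g⁻¹ * y) = 1) : False := by
  have key : ∀ x y : G, sz y < sz x → sz y ≠ 1 → (sz x).Coprime (sz y) → Odd (sz x) →
      y * y = 1 → (sz (x * y) ∣ sz x ∨ sz (x * y) ∣ sz y) →
      (∀ g : G, g * y * g⁻¹ * y * (g * y * g⁻¹ * y) = 1) → False := by
    intro x y hlt hy1 hcop hox hy2 hpure hsq
    obtain ⟨g, hg⟩ : ∃ g : G, g * y * g⁻¹ ≠ y := by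
      by_contra h
      push Not at h
      exact hy1 ((sz_eq_one_iff y).2 (mem_center_iff.2 fun g => mul_inv_eq_iff_eq_mul.1 (h g)))
    have hyi : y⁻¹ = y := inv_eq_of_mul_eq_one_right hy2
    refine not_translate hox (e := g * y * g⁻¹ * y) (fun z hz => ?_) (hsq g) fun h => hg ?_
    · have := cls_mul_coprime hlt hy1 hcop rfl rfl hpure z hz (g * y * g⁻¹) ⟨g, rfl⟩
      rwa [hyi] at this
    · rw [eq_inv_of_mul_eq_one_left h, hyi]
  rcases lt_trichotomy (sz y) (sz x) with h | h | h
  · exact key x y h hy1 hcop hox hy2 hpure hsqy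
  · rw [h, Nat.coprime_self] at hcop
    exact hx1 hcop
  · exact key y x h hx1 hcop.symm hoy hx2 (by rw [← hxy.eq]; exact hpure.symm) hsqx

/-- The product of two commuting classes with pure sizes is pure for one of them. -/
theorem sz_mul_dvd {π : Set ℕ} (D : Split G π) {x y : G} (hxy : Commute x y) (hx2 : x * x = 1)
    (hy2 : y * y = 1) (hin : InS π (sz x)) (hout : OutS π (sz y)) :
    sz (x * y) ∣ sz x ∨ sz (x * y) ∣ sz y := by
  have hcop := coprime_in_out hin hout
  have hd : sz (x * y) ∣ sz x * sz y := by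
    have h1 : centralizer ({x} : Set G) ⊓ centralizer ({y} : Set G) ≤
        centralizer ({x * y} : Set G) := fun g hg => mem_cent_iff.2
      ((mem_cent_iff.1 (mem_inf.1 hg).1).mul_right (mem_cent_iff.1 (mem_inf.1 hg).2))
    have h2 : (centralizer ({x} : Set G) ⊓ centralizer ({y} : Set G)).index = sz x * sz y :=
      le_antisymm index_inf_le (Nat.le_of_dvd (Nat.pos_of_ne_zero index_ne_zero_of_finite)
        (hcop.mul_dvd_of_dvd_of_dvd (index_dvd_of_le inf_le_left) (index_dvd_of_le inf_le_right)))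
    exact h2 ▸ index_dvd_of_le h1
  have hr : IsReal (x * y) := isReal_of_sq (by
    rw [hxy.symm.mul_mul_mul_comm x y, hx2, hy2, one_mul])
  rcases D.pure _ hr with h | h
  · exact Or.inl ((coprime_in_out h hout).dvd_of_dvd_mul_right hd)
  · exact Or.inr ((coprime_in_out hin h).symm.dvd_of_dvd_mul_left hd)

/-- A real element of a quotient by an odd normal subgroup lifts to a real element. -/
theorem exists_real_lift_odd (N : Subgroup G) [N.Normal] (hN : Odd (Nat.card N)) {xb : G ⧸ N}
    (hx : IsReal xb) : ∃ x : G, IsReal x ∧ QuotientGroup.mk' N x = xb := by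
  classical
  have : Fact (Nat.Prime 2) := ⟨Nat.prime_two⟩
  set f := QuotientGroup.mk' N with hf
  obtain ⟨gb, ⟨k, hk⟩, hgb⟩ := CfsgLib.RealElt.exists_two_element_inverts hx
  obtain ⟨g0, rfl⟩ := QuotientGroup.mk'_surjective N gb
  obtain ⟨x0, rfl⟩ := QuotientGroup.mk'_surjective N xb
  -- a 2-element in the coset of `g0`
  obtain ⟨a, m, hm, hord⟩ := Nat.exists_eq_pow_mul_and_not_dvd (orderOf_pos g0).ne' 2 (by norm_num)
  obtain ⟨e, he0, he1⟩ := Nat.chineseRemainder
    ((Nat.prime_two.coprime_iff_not_dvd.2 hm).pow_left a) 1 0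
  set g := g0 ^ e with hg
  have hga : g ^ 2 ^ a = 1 := by
    rw [hg, ← pow_mul, ← orderOf_dvd_iff_pow_eq_one, hord, mul_comm e]
    exact Nat.mul_dvd_mul_left _ (Nat.modEq_zero_iff_dvd.1 he1)
  have hfg : f g = f g0 := by
    rw [hg, map_pow]
    conv_rhs => rw [← pow_one (f g0)]
    refine pow_eq_pow_iff_modEq.2 (he0.of_dvd ?_)
    rw [hk]
    obtain h := hk ▸ orderOf_map_dvd f g0
    rw [hord] at h
    exact (Nat.Coprime.pow_left _ (Nat.prime_two.coprime_iff_not_dvd.2 hm)).dvd_of_dvd_mul_right h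
  let Ω := {w : G // f w = f x0}
  have hmem : ∀ w : Ω, f (g * (w : G) * g⁻¹)⁻¹ = f x0 := by
    intro w
    rw [map_inv, map_mul, map_mul, map_inv, hfg, w.2, hgb, inv_inv]
  let φ : Ω → Ω := fun w => ⟨(g * (w : G) * g⁻¹)⁻¹, hmem w⟩
  have hinj : Function.Injective φ := fun u v h => Subtype.ext (by
    have := congrArg (fun w : Ω => (w : G)) h
    simpa [φ] using this)
  let σ : Equiv.Perm Ω := Equiv.ofBijective φ (Finite.injective_iff_bijective.1 hinj)
  have hiter : ∀ n : ℕ, ∀ w : Ω, ((σ ^ n) w : G) =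
      if Even n then g ^ n * (w : G) * (g ^ n)⁻¹ else (g ^ n * (w : G) * (g ^ n)⁻¹)⁻¹ := by
    intro n
    induction n with
    | zero => intro w; simp
    | succ n ih =>
      intro w
      rw [pow_succ', Equiv.Perm.mul_apply]
      show (g * ((σ ^ n) w : G) * g⁻¹)⁻¹ = _
      rw [ih w]
      rcases Nat.even_or_odd n with hn | hn
      · rw [if_pos hn, if_neg (Nat.not_even_iff_odd.2 hn.add_one)]
        congr 1
        rw [pow_succ']; group
      · rw [if_neg (Nat.not_even_iff_odd.2 hn), if_pos hn.add_one, pow_succ']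
        group
  have hσ : σ ^ 2 ^ (a + 1) = 1 := Equiv.ext fun w => Subtype.ext (by
    rw [hiter, if_pos ⟨2 ^ a, by ring⟩, pow_succ, pow_mul, hga]
    simp)
  have := Fintype.ofFinite Ω
  have hcard : ¬ 2 ∣ Fintype.card Ω := by
    have e : Ω ≃ N :=
      { toFun := fun w => ⟨x0⁻¹ * (w : G), QuotientGroup.eq.1 w.2.symm⟩
        invFun := fun n => ⟨x0 * (n : G), (QuotientGroup.eq.2 (by simp)).symm⟩
        left_inv := fun w => Subtype.ext (by simp)
        right_inv := fun n => Subtype.ext (by simp) }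
    rw [← Nat.card_eq_fintype_card, Nat.card_congr e, ← even_iff_two_dvd, Nat.not_even_iff_odd]
    exact hN
  obtain ⟨w, hw⟩ := Equiv.Perm.exists_fixed_point_of_prime (p := 2) hcard hσ
  refine ⟨w, isConj_iff.2 ⟨g, ?_⟩, w.2⟩
  have h1 : (g * (w : G) * g⁻¹)⁻¹ = w := congrArg Subtype.val hw
  exact inv_eq_iff_eq_inv.1 h1

/-- Quotients by odd normal subgroups inherit the splitting. -/
theorem Split.quotient_odd {π : Set ℕ} (D : Split G π) (N : Subgroup G) [N.Normal]
    (hN : Odd (Nat.card N)) : Split (G ⧸ N) π :=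
  D.quotient N fun _ h => exists_real_lift_odd N hN h

end CfsgLib.FgsD.RealGraph
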