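import Mathlib
import Cfsg.Agent.Lib.Base.MinimalNormal

/-!
# A solvable group generated by its 2-elements

If an odd Sylow subgroup normalises a Sylow 2-subgroup, it is trivial.
-/

set_option autoImplicit false
set_option linter.unusedSectionVars false

open scoped Pointwise

namespace CfsgLib.FgsD.RealGraph

open Subgroup

universe u

theorem eq_bot_of_normalizes_aux (n : ℕ) : ∀ (K : Type u) [Group K] [Finite K], Nat.card K ≤ n →
    Group.IsSolvable K → closure {g : K | ∃ k : ℕ, orderOf g = 2 ^ k} = ⊤ →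
    ∀ (p : ℕ) [Fact p.Prime], p ≠ 2 → ∀ (S : Sylow 2 K) (P : Sylow p K),
      (P : Subgroup K) ≤ normalizer ((S : Subgroup K) : Set K) → (P : Subgroup K) = ⊥ := by
  induction n with
  | zero => intro K _ _ hn; exact absurd Nat.card_pos (by omega : ¬ 0 < Nat.card K)
  | succ n ih =>
    intro K _ _ hn hsol hgen p hp hp2 S P hPS
    by_contra hP
    have : Fact (Nat.Prime 2) := ⟨Nat.prime_two⟩
    have : Nontrivial K := by
      by_contra h
      rw [not_nontrivial_iff_subsingleton] at h
      exact hP (Subsingleton.elim _ _)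
    obtain ⟨A, hA⟩ := CfsgLib.Base.exists_isMinimalNormal (G := K)
    have := hA.normal
    obtain ⟨q, hq, -, -, hAq⟩ := hA.exists_prime inferInstance
    have : Fact q.Prime := ⟨hq⟩
    have hcard : Nat.card (K ⧸ A) ≤ n := by
      have h1 := A.card_eq_card_quotient_mul_card_subgroup
      have h2 : 1 < Nat.card A := A.one_lt_card_iff_ne_bot.2 hA.ne_bot
      have h3 : 0 < Nat.card (K ⧸ A) := Nat.card_pos
      have h4 : Nat.card (K ⧸ A) < Nat.card K := by
        rw [h1]; exact lt_mul_of_one_lt_right h3 h2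
      omega
    set f := QuotientGroup.mk' A with hf
    have hfs : Function.Surjective f := QuotientGroup.mk'_surjective A
    have hgen' : closure {g : K ⧸ A | ∃ k : ℕ, orderOf g = 2 ^ k} = ⊤ := by
      rw [eq_top_iff, ← map_top_of_surjective f hfs, ← hgen, MonoidHom.map_closure, closure_le]
      rintro _ ⟨g, ⟨k, hk⟩, rfl⟩
      obtain ⟨j, -, hj⟩ := (Nat.dvd_prime_pow Nat.prime_two).1 (hk ▸ orderOf_map_dvd f g)
      exact subset_closure ⟨j, hj⟩
    have hbot := ih (K ⧸ A) hcard inferInstance hgen' p hp2 (S.mapSurjective hfs)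
      (P.mapSurjective hfs) (by
        rw [Sylow.coe_mapSurjective, Sylow.coe_mapSurjective]
        exact (map_mono hPS).trans (le_normalizer_map f))
    rw [Sylow.coe_mapSurjective, Subgroup.map_eq_bot_iff, hf, QuotientGroup.ker_mk'] at hbot
    -- hence `q = p` and `A = P`
    have hqp : q = p := by
      obtain ⟨a, ha⟩ := exists_prime_orderOf_dvd_card' p (P.2.card_eq_or_dvd.resolve_left
        fun h => hP (P.1.eq_bot_of_card_eq h))
      obtain ⟨k, hk⟩ := IsPGroup.iff_orderOf.1 hAq ⟨(a : K), hbot a.2⟩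
      rw [Subgroup.orderOf_mk, orderOf_coe, ha] at hk
      exact ((Nat.prime_dvd_prime_iff_eq hp.out hq).1 (hp.out.dvd_of_dvd_pow (dvd_of_eq hk))).symm
    subst hqp
    have hPA : (P : Subgroup K) = A := le_antisymm hbot (P.3 hAq hbot).le
    have hPn : (P : Subgroup K).Normal := hPA ▸ hA.normal
    have hcent : ∀ g : K, (∃ k : ℕ, orderOf g = 2 ^ k) → ∀ a ∈ (P : Subgroup K), Commute g a := by
      rintro g ⟨k, hk⟩ a ha
      obtain ⟨R, hR⟩ := (IsPGroup.of_card (G := zpowers g) (n := k)
        (by rw [Nat.card_zpowers, hk])).exists_le_sylow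
      obtain ⟨c, rfl⟩ := MulAction.exists_smul_eq K S R
      have hgS : c⁻¹ * g * c ∈ (S : Subgroup K) := by
        have := hR (mem_zpowers g)
        rw [Sylow.coe_subgroup_smul, mem_pointwise_smul_iff_inv_smul_mem] at this
        simpa [MulAut.smul_def, mul_assoc] using this
      have haP : c⁻¹ * a * c ∈ (P : Subgroup K) := by simpa using hPn.conj_mem a ha c⁻¹
      set s := c⁻¹ * g * c
      set b := c⁻¹ * a * c
      have h1 : s * b * s⁻¹ * b⁻¹ ∈ (S : Subgroup K) ⊓ P := by
        refine mem_inf.2 ⟨?_, mul_mem (hPn.conj_mem b haP s) (inv_mem haP)⟩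
        rw [mul_assoc s b, mul_assoc s]
        exact mul_mem hgS ((mem_normalizer_iff.1 (hPS haP) s⁻¹).1 (inv_mem hgS))
      rw [(IsPGroup.disjoint_of_ne 2 q (Ne.symm hp2) _ _ S.2 P.2).eq_bot, mem_bot,
        mul_inv_eq_one, mul_inv_eq_iff_eq_mul] at h1
      have := congrArg (fun w => c * w * c⁻¹) h1
      show g * a = a * g
      simpa [s, b, mul_assoc] using this
    obtain ⟨M, hM⟩ := exists_right_complement'_of_coprime (N := (P : Subgroup K))
      P.card_coprime_index
    have htop : M = ⊤ := by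
      rw [eq_top_iff, ← hgen, closure_le]
      intro g hg
      obtain ⟨a, ha, m, hm, rfl⟩ : ∃ a ∈ (P : Subgroup K), ∃ m ∈ M, a * m = g := by
        obtain ⟨⟨a, m⟩, h⟩ := hM.2 g
        exact ⟨a, a.2, m, m.2, h⟩
      obtain ⟨k, hk⟩ := hg
      -- `a` is central, hence a power of a `2`-element with odd order
      have hzc : ∀ w : K, Commute w a := by
        intro w
        have hw : w ∈ closure {g : K | ∃ k : ℕ, orderOf g = 2 ^ k} := hgen ▸ mem_top w
        induction hw using closure_induction with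
        | mem w hw => exact hcent w hw a ha
        | one => exact Commute.one_left a
        | mul u v _ _ hu hv => exact hu.mul_left hv
        | inv u _ hu => exact hu.inv_left
      obtain ⟨j, hj⟩ := IsPGroup.iff_orderOf.1 P.2 ⟨a, ha⟩
      rw [Subgroup.orderOf_mk] at hj
      have h1 : a ^ 2 ^ k ∈ M := by
        have h2 : (a * m) ^ 2 ^ k = 1 := hk ▸ pow_orderOf_eq_one _
        rw [(hzc m).symm.mul_pow, mul_eq_one_iff_eq_inv] at h2
        rw [h2]
        exact inv_mem (pow_mem hm _)
      have h3 : a ^ 2 ^ k = 1 := by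
        have := disjoint_iff.1 hM.disjoint
        rw [eq_bot_iff] at this
        exact mem_bot.1 (this ⟨pow_mem ha _, h1⟩)
      have h4 : orderOf a = 1 := by
        refine Nat.eq_one_of_dvd_coprimes ?_ dvd_rfl (orderOf_dvd_of_pow_eq_one h3)
        rw [hj]
        exact Nat.Coprime.pow _ _ ((Nat.coprime_primes hq Nat.prime_two).2 hp2)
      rw [orderOf_eq_one_iff.1 h4, one_mul]
      exact hm
    apply hP
    have := disjoint_iff.1 hM.disjoint
    rwa [htop, inf_top_eq] at this

/-- An odd Sylow subgroup of a solvable group generated by 2-elements normalising a Sylow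
2-subgroup is trivial. -/
theorem eq_bot_of_normalizes {K : Type u} [Group K] [Finite K] (hsol : Group.IsSolvable K)
    (hgen : closure {g : K | ∃ k : ℕ, orderOf g = 2 ^ k} = ⊤) {p : ℕ} [Fact p.Prime] (hp2 : p ≠ 2)
    (S : Sylow 2 K) (P : Sylow p K)
    (h : (P : Subgroup K) ≤ normalizer ((S : Subgroup K) : Set K)) : (P : Subgroup K) = ⊥ :=
  eq_bot_of_normalizes_aux (Nat.card K) K le_rfl hsol hgen p hp2 S P h

end CfsgLib.FgsD.RealGraph
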