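import Cfsg.Agent.Lib.FgsD.RealGraph.Reduce
import Cfsg.Agent.Lib.FgsD.RealGraph.TwoGen

/-!
# The structure of a group with split real class sizes

Some real class size is even; a prime outside the side of the witness, other than 2, does not divide
the order of a solvable group of this kind generated by its 2-elements.
-/

set_option autoImplicit false
set_option linter.unusedSectionVars false

open scoped Pointwise

namespace CfsgLib.FgsD.RealGraph

open Subgroup CfsgLib.Involutions CfsgLib.FgsC.PrimeClasses CfsgLib.FgsC.DiscGraph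

variable {G : Type*} [Group G] [Finite G] {π : Set ℕ}

/-- With two sides, some real class size is even. -/
theorem Split.exists_even (D : Split G π) {t : G} (ht : Witness π t) {y : G} (hy : IsReal y)
    (hout : OutS π (sz y)) (hy1 : sz y ≠ 1) : ∃ x : G, IsReal x ∧ 2 ∣ sz x := by
  by_contra hall
  push Not at hall
  have : Fact (Nat.Prime 2) := ⟨Nat.prime_two⟩
  obtain ⟨P⟩ := (inferInstance : Nonempty (Sylow 2 G))
  have hP : (P : Subgroup G).Normal := by
    by_contra hP
    obtain ⟨x, u, r, hr, hr2, hx, hu⟩ :=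
      CfsgLib.FgsB.exists_odd_prime_inverted_of_not_normal P hP
    have hx' : RealOdd x := realOdd_of_inverted
      (fun e => hr.ne_one (by rw [← hx, e, orderOf_one])) (hx ▸ hr.odd_of_ne_two hr2) hu
    exact hall x hx'.isReal (two_dvd_sz hx')
  have hy2 : y * y = 1 := sq_eq_one_of_odd hy (Nat.not_even_iff_odd.1 fun h =>
    hall y hy (even_iff_two_dvd.1 h))
  have hyo : orderOf y = 2 := invol_iff.2 ⟨hy2, fun h => hy1 (by
    rw [sz_eq_one_iff, h]; exact one_mem _)⟩
  have hmemP : ∀ w : G, orderOf w = 2 → w ∈ (P : Subgroup G) := fun w hw =>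
    mem_of_smul_eq (k := 1) (by rw [hw, pow_one])
      (Sylow.smul_eq_iff_mem_normalizer.2 (by
        show w ∈ normalizer (((P : Subgroup G)) : Set G)
        rw [normalizer_eq_top_iff.2 hP]; exact mem_top w))
  have hcent : ∀ w : G, Odd (sz w) → ∀ s ∈ (P : Subgroup G), Commute s w := by
    intro w hw s hs
    have h1 : (centralizer ({w} : Set G)).relIndex (P : Subgroup G) = 1 := by
      obtain ⟨k, hk⟩ := IsPGroup.iff_card.1 P.2
      refine Nat.eq_one_of_dvd_coprimes (a := sz w) (b := 2 ^ k)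
        ((Nat.coprime_two_right.2 hw).pow_right k) ?_ ((relIndex_dvd_card _ _).trans (dvd_of_eq hk))
      exact CfsgLib.FgsC.relIndex_dvd_index _ _
    exact mem_cent_iff.1 (relIndex_eq_one.1 h1 hs)
  have hsq : ∀ w : G, orderOf w = 2 → Odd (sz w) → ∀ g : G,
      g * w * g⁻¹ * w * (g * w * g⁻¹ * w) = 1 := by
    intro w hw how g
    have h1 : Commute (g * w * g⁻¹) w := hcent w how _ (hP.conj_mem w (hmemP w hw) g)
    rw [h1.symm.mul_mul_mul_comm, invol_mul_self (conj_invol g hw), invol_mul_self hw, one_mul]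
  have hot : Odd (sz t) := D.odd_of_inS ht.ins
  have hoy : Odd (sz y) := Nat.not_even_iff_odd.1 fun h => hall y hy (even_iff_two_dvd.1 h)
  have hc : Commute t y := hcent y hoy t (hmemP t ht.ord)
  exact false_of_odd_classes hc (invol_mul_self ht.ord) hy2 hot hoy ht.ne_one hy1
    (coprime_in_out ht.ins hout) (sz_mul_dvd D hc (invol_mul_self ht.ord) hy2 ht.ins hout)
    (hsq t ht.ord hot) (hsq y hyo hoy)

/-- An odd prime not dividing the class size of the witness does not divide the order. -/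
theorem Split.not_dvd_card (D : Split G π) {t : G} (ht : Witness π t) (hsol : Group.IsSolvable G)
    (hgen : closure {g : G | ∃ k : ℕ, orderOf g = 2 ^ k} = ⊤) {p : ℕ} (hp : p.Prime) (hp2 : p ≠ 2)
    (hpt : ¬ p ∣ sz t) : ¬ p ∣ Nat.card G := by
  have : Fact (Nat.Prime 2) := ⟨Nat.prime_two⟩
  have : Fact p.Prime := ⟨hp⟩
  set C := centralizer ({t} : Set G) with hC
  have h2t : ¬ 2 ∣ sz t := by
    rw [← even_iff_two_dvd, Nat.not_even_iff_odd]; exact D.odd_of_inS ht.ins
  have hcard : ∀ {q : ℕ}, q.Prime → ¬ q ∣ sz t → ∀ Q : Sylow q C,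
      Nat.card ((Q : Subgroup C).map C.subtype) = q ^ (Nat.card G).factorization q := by
    intro q hq hqt Q
    have : Fact q.Prime := ⟨hq⟩
    rw [card_map_of_injective Subtype.val_injective, Q.card_eq_multiplicity]
    congr 1
    rw [← C.card_mul_index, Nat.factorization_mul Nat.card_pos.ne' index_ne_zero_of_finite,
      Finsupp.add_apply, Nat.factorization_eq_zero_of_not_dvd (show ¬ q ∣ C.index from hqt),
      add_zero]
  obtain ⟨S⟩ := (inferInstance : Nonempty (Sylow 2 C))
  obtain ⟨Q⟩ := (inferInstance : Nonempty (Sylow p C))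
  have hSn := D.sylow_cent_normal ht S
  have hle : (Q : Subgroup C).map C.subtype ≤
      normalizer (((S : Subgroup C).map C.subtype : Subgroup G) : Set G) := by
    refine le_trans (map_mono ?_) (le_normalizer_map C.subtype)
    rw [normalizer_eq_top_iff.2 hSn]
    exact le_top
  have h := eq_bot_of_normalizes hsol hgen hp2 (Sylow.ofCard _ (hcard Nat.prime_two h2t S))
    (Sylow.ofCard _ (hcard hp hpt Q)) hle
  intro hpd
  have h1 := hcard hp hpt Q
  rw [show (Q : Subgroup C).map C.subtype = ⊥ from h, card_bot] at h1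
  have h2 := hp.factorization_pos_of_dvd Nat.card_pos.ne' hpd
  exact absurd h1.symm (Nat.one_lt_pow h2.ne' hp.one_lt).ne'

/-- The subgroup generated by the 2-elements. -/
theorem closure_two_normal : (closure {g : G | ∃ k : ℕ, orderOf g = 2 ^ k}).Normal := by
  refine ⟨fun n hn h => ?_⟩
  have e : (closure {g : G | ∃ k : ℕ, orderOf g = 2 ^ k}).map (MulAut.conj h).toMonoidHom ≤
      closure {g : G | ∃ k : ℕ, orderOf g = 2 ^ k} := by
    rw [MonoidHom.map_closure, closure_le]
    rintro _ ⟨g, ⟨k, hk⟩, rfl⟩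
    exact subset_closure ⟨k, by
      show orderOf (h * g * h⁻¹) = 2 ^ k
      rw [orderOf_conj_eq, hk]⟩
  exact e ⟨n, hn, rfl⟩

/-- Real elements of odd order are real in the subgroup generated by the 2-elements. -/
theorem exists_realOdd_closure_two {x : G} (hx : RealOdd x) :
    ∃ h : x ∈ closure {g : G | ∃ k : ℕ, orderOf g = 2 ^ k}, RealOdd
      (⟨x, h⟩ : ↥(closure {g : G | ∃ k : ℕ, orderOf g = 2 ^ k})) := by
  obtain ⟨g, ⟨k, hk⟩, hg⟩ := CfsgLib.RealElt.exists_two_element_inverts hx.2.2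
  have hgK : g ∈ closure {g : G | ∃ k : ℕ, orderOf g = 2 ^ k} := subset_closure ⟨k, hk⟩
  have hgK' : x * g * x⁻¹ ∈ closure {g : G | ∃ k : ℕ, orderOf g = 2 ^ k} :=
    subset_closure ⟨k, by rw [orderOf_conj_eq]; exact hk⟩
  have h2 : x ^ 2 ∈ closure {g : G | ∃ k : ℕ, orderOf g = 2 ^ k} := by
    have e : x * g * x⁻¹ * g⁻¹ = x ^ 2 := by
      have h1 : g * x⁻¹ * g⁻¹ = x := by rw [← conj_inv, hg, inv_inv]
      calc x * g * x⁻¹ * g⁻¹ = x * (g * x⁻¹ * g⁻¹) := by group
        _ = x ^ 2 := by rw [h1, sq]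
    exact e ▸ mul_mem hgK' (inv_mem hgK)
  obtain ⟨j, hj⟩ := exists_zpow_sq_eq hx.2.1
  have hxK : x ∈ closure {g : G | ∃ k : ℕ, orderOf g = 2 ^ k} := by
    have h3 := zpow_mem h2 j
    rw [← zpow_natCast, ← zpow_mul, mul_comm, zpow_mul, zpow_natCast, hj] at h3
    exact h3
  refine ⟨hxK, fun e => hx.1 (congrArg Subtype.val e), ?_, isConj_iff.2 ⟨⟨g, hgK⟩, Subtype.ext ?_⟩⟩
  · rw [← orderOf_coe]; exact hx.2.1
  · exact hg

theorem closure_two_gen :
    closure {g : ↥(closure {g : G | ∃ k : ℕ, orderOf g = 2 ^ k}) | ∃ k : ℕ, orderOf g = 2 ^ k} =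
      ⊤ := by
  rw [← closure_closure_coe_preimage (k := {g : G | ∃ k : ℕ, orderOf g = 2 ^ k})]
  congr 1
  ext g
  simp only [Set.mem_preimage, Set.mem_setOf_eq, orderOf_coe]

end CfsgLib.FgsD.RealGraph
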