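import Cfsg.Agent.Lib.FgsD.RealGraph.Basic
import Cfsg.Agent.Lib.FgsB.OddInverted
import Cfsg.Agent.Lib.FT.OddOrderTheorem
import Cfsg.Agent.Lib.Coprime.Action2

/-!
# A simple group whose real centralisers are transitive on the Sylow 2-subgroups, part 1

If every nontrivial real element of odd order has a centraliser transitive on the Sylow 2-subgroups,
then for every involution the centraliser is transitive on the Sylow 2-subgroups through it.
-/

set_option autoImplicit false
set_option linter.unusedSectionVars false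

open scoped Pointwise

namespace CfsgLib.FgsD.RealGraph

open Subgroup CfsgLib.Involutions

/-- The configuration. -/
structure Setup (L : Type*) [Group L] : Prop where
  simple : IsSimpleGroup L
  nonsolvable : ¬ Group.IsSolvable L
  trans : ∀ x : L, RealOdd x → ∀ S T : Sylow 2 L, ∃ c : L, Commute c x ∧ c • S = T
  noPair : ∀ (u a b : L) (p : ℕ), orderOf u = 2 → p.Prime → p ≠ 2 → orderOf a = p →
    orderOf b = p → Commute a b → u * a * u⁻¹ = a⁻¹ → u * b * u⁻¹ = b⁻¹ → b ∈ zpowers a

namespace Setup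

variable {L : Type*} [Group L] [Finite L] (K : Setup L)
include K

theorem normal_cases {N : Subgroup L} (hN : N.Normal) : N = ⊥ ∨ N = ⊤ :=
  haveI := K.simple
  hN.eq_bot_or_eq_top

theorem not_isPGroup : ¬ IsPGroup 2 L := fun h => by
  have : Fact (Nat.Prime 2) := ⟨Nat.prime_two⟩
  have := h.isNilpotent
  exact K.nonsolvable inferInstance

theorem center_eq_bot : center L = ⊥ := by
  refine (K.normal_cases inferInstance).resolve_right fun h => K.nonsolvable ?_
  exact Group.isSolvable_of_comm fun a b => mem_center_iff.1 (h ▸ mem_top b) a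

theorem sylow_ne_top (S : Sylow 2 L) : (S : Subgroup L) ≠ ⊤ := fun h =>
  K.not_isPGroup ((S.2.of_equiv (MulEquiv.subgroupCongr h)).of_equiv Subgroup.topEquiv)

theorem sylow_ne_bot (S : Sylow 2 L) : (S : Subgroup L) ≠ ⊥ := fun h => by
  have : Fact (Nat.Prime 2) := ⟨Nat.prime_two⟩
  refine K.nonsolvable (CfsgLib.FT.isSolvable_of_odd ?_)
  rw [← Nat.not_even_iff_odd, even_iff_two_dvd]
  intro h2
  exact S.not_dvd_index (by rwa [h, index_bot])

/-- An element fixing all Sylow 2-subgroups is trivial. -/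
theorem eq_one_of_fix_all {g : L} (h : ∀ T : Sylow 2 L, g • T = T) : g = 1 := by
  have : Fact (Nat.Prime 2) := ⟨Nat.prime_two⟩
  obtain ⟨S⟩ := (inferInstance : Nonempty (Sylow 2 L))
  have hg : g ∈ (MulAction.toPermHom L (Sylow 2 L)).ker := Equiv.ext fun T => h T
  rcases K.normal_cases (MonoidHom.normal_ker (MulAction.toPermHom L (Sylow 2 L))) with e | e
  · rwa [e, mem_bot] at hg
  · exfalso
    have hn : (S : Subgroup L).Normal := by
      rw [← normalizer_eq_top_iff, eq_top_iff]
      intro x _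
      refine Sylow.smul_eq_iff_mem_normalizer.1 ?_
      have hx : x ∈ (MulAction.toPermHom L (Sylow 2 L)).ker := e ▸ mem_top x
      exact congrArg (fun σ : Equiv.Perm (Sylow 2 L) => σ S) hx
    rcases K.normal_cases hn with e' | e'
    · exact K.sylow_ne_bot S e'
    · exact K.sylow_ne_top S e'

theorem not_fix {x : L} (hx : RealOdd x) (S : Sylow 2 L) : x • S ≠ S := by
  intro hS
  refine hx.1 (K.eq_one_of_fix_all fun T => ?_)
  obtain ⟨c, hc, rfl⟩ := K.trans x hx S T
  rw [← mul_smul, ← hc.eq, mul_smul, hS]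

/-- All conjugates of a real element come from the normaliser of any Sylow 2-subgroup. -/
theorem exists_normalizer_conj {x : L} (hx : RealOdd x) (S : Sylow 2 L) (g : L) :
    ∃ n : L, n • S = S ∧ g * x * g⁻¹ = n * x * n⁻¹ := by
  obtain ⟨c, hc, hcS⟩ := K.trans x hx S (g⁻¹ • S)
  refine ⟨g * c, by rw [mul_smul, hcS, smul_inv_smul], ?_⟩
  calc g * x * g⁻¹ = g * (x * c) * c⁻¹ * g⁻¹ := by group
    _ = g * (c * x) * c⁻¹ * g⁻¹ := by rw [hc.eq]
    _ = g * c * x * (g * c)⁻¹ := by group

theorem not_mem_normal_two {u : L} (hu : orderOf u = 2) :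
    ∀ N : Subgroup L, N.Normal → IsPGroup 2 N → u ∉ N := by
  intro N hN hp huN
  rcases K.normal_cases hN with rfl | rfl
  · rw [mem_bot] at huN
    simp [huN] at hu
  · exact K.not_isPGroup (hp.of_equiv Subgroup.topEquiv)

/-- A real element inverted by an involution `u` extends to one with centraliser normalising
`⟨u⟩` modulo itself. -/
theorem exists_max {u y : L} (hu : orderOf u = 2) (hy : RealOdd y) (huy : u * y * u⁻¹ = y⁻¹) :
    ∃ x : L, RealOdd x ∧ u * x * u⁻¹ = x⁻¹ ∧ y ∈ zpowers x ∧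
      ∀ w : L, Commute w x → Odd (orderOf w) → u * w * u⁻¹ = w⁻¹ → w ∈ zpowers x := by
  classical
  obtain ⟨x, ⟨hxi, hxo, hxy⟩, hmax⟩ := Set.exists_max_image
    {x : L | u * x * u⁻¹ = x⁻¹ ∧ Odd (orderOf x) ∧ y ∈ zpowers x} orderOf (Set.toFinite _)
    ⟨y, huy, hy.2.1, mem_zpowers y⟩
  have hx1 : x ≠ 1 := by
    rintro rfl
    simp at hxy
    exact hy.1 hxy
  refine ⟨x, realOdd_of_inverted hx1 hxo hxi, hxi, hxy, fun w hw hwo hwi => ?_⟩
  set A : Subgroup L := closure ({x, w} : Set L) with hA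
  have : IsMulCommutative A := Subgroup.isMulCommutative_closure (by
    rintro a (rfl | rfl) b (rfl | rfl)
    exacts [rfl, hw.eq.symm, hw.eq, rfl])
  have hinv : ∀ a ∈ A, u * a * u⁻¹ = a⁻¹ := by
    intro a ha
    induction ha using closure_induction with
    | mem a ha => rcases ha with rfl | rfl <;> assumption
    | one => simp
    | mul a b ha hb iha ihb =>
      rw [mul_inv_rev, ← ihb, ← iha]
      have hab : Commute a b := congrArg Subtype.val (mul_comm' (⟨a, ha⟩ : A) ⟨b, hb⟩)
      calc u * (a * b) * u⁻¹ = u * (b * a) * u⁻¹ := by rw [hab.eq]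
        _ = u * b * u⁻¹ * (u * a * u⁻¹) := by group
    | inv a _ iha => rw [← conj_inv, iha]
  have hodd : ∀ a ∈ A, Odd (orderOf a) := by
    intro a ha
    induction ha using closure_induction with
    | mem a ha => rcases ha with rfl | rfl <;> assumption
    | one => simp
    | mul a b ha hb iha ihb =>
      have hab : Commute a b := congrArg Subtype.val (mul_comm' (⟨a, ha⟩ : A) ⟨b, hb⟩)
      exact Odd.of_dvd_nat (iha.mul ihb) hab.orderOf_mul_dvd_mul_orderOf
    | inv a _ iha => rwa [orderOf_inv]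
  have hcyc : IsCyclic A := by
    by_contra hnc
    open scoped IsMulCommutative in
    obtain ⟨q, a, b, hq, haq, hbq, hb1, hab⟩ := CfsgLib.Coprime.exists_pair_of_not_isCyclic hnc
    have : Fact q.Prime := ⟨hq⟩
    have hbo : orderOf (b : L) = q := by
      rw [orderOf_coe]; exact orderOf_eq_prime hbq hb1
    have ha1 : a ≠ 1 := fun e => hab (e ▸ one_mem _)
    have hao : orderOf (a : L) = q := by
      rw [orderOf_coe]; exact orderOf_eq_prime haq ha1
    have hq2 : q ≠ 2 := by
      rintro rfl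
      exact absurd (hbo ▸ hodd _ b.2) (by decide)
    obtain ⟨k, hk⟩ := mem_zpowers_iff.1 (K.noPair u b a q hu hq hq2 hbo hao
      (congrArg Subtype.val (mul_comm' b a)) (hinv _ b.2) (hinv _ a.2))
    exact hab (mem_zpowers_iff.2 ⟨k, Subtype.ext (by simpa using hk)⟩)
  obtain ⟨c, hc⟩ := hcyc.exists_generator
  have hxA : x ∈ A := subset_closure (by simp)
  have hwA : w ∈ A := subset_closure (by simp)
  have key : ∀ a ∈ A, a ∈ zpowers (c : L) := by
    intro a ha
    obtain ⟨k, hk⟩ := mem_zpowers_iff.1 (hc ⟨a, ha⟩)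
    exact mem_zpowers_iff.2 ⟨k, congrArg Subtype.val hk⟩
  have hle := hmax (c : L) ⟨hinv _ c.2, hodd _ c.2, zpowers_le.2 (key x hxA) hxy⟩
  have heq : zpowers x = zpowers (c : L) :=
    Subgroup.eq_of_le_of_card_ge (zpowers_le.2 (key x hxA))
      (by rw [Nat.card_zpowers, Nat.card_zpowers]; exact hle)
  rw [heq]
  exact key w hwA

/-- The centraliser of an involution `u` in the centraliser of a real element inverted by `u` is
transitive on the Sylow 2-subgroups through `u`. -/
theorem exists_conj_sylow {u y : L} (hu : orderOf u = 2) (hy : RealOdd y)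
    (huy : u * y * u⁻¹ = y⁻¹) {S T : Sylow 2 L} (hS : u ∈ (S : Subgroup L))
    (hT : u ∈ (T : Subgroup L)) : ∃ r : L, Commute r u ∧ Commute r y ∧ r • S = T := by
  have : Fact (Nat.Prime 2) := ⟨Nat.prime_two⟩
  obtain ⟨x, hx, hxi, hyx, hmax⟩ := K.exists_max hu hy huy
  set C : Subgroup L := centralizer ({x} : Set L) with hC
  have hCmem : ∀ {h : L}, h ∈ C ↔ Commute h x := fun {h} => mem_centralizer_singleton_iff
  obtain ⟨m, hm⟩ := exists_zpow_sq_eq hx.2.1
  have huC : ∀ h ∈ C, u * h * u⁻¹ ∈ C := by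
    intro h hh
    rw [hCmem] at hh ⊢
    have := (hh.map (MulAut.conj u))
    simp only [MulAut.conj_apply, hxi] at this
    simpa using this.inv_right
  set Ks : Subgroup L := C ⊔ zpowers u with hKs
  have huK : u ∈ Ks := mem_sup_right (mem_zpowers u)
  have hCK : C ≤ Ks := le_sup_left
  have hxK : x ∈ Ks := hCK (hCmem.2 (Commute.refl x))
  -- every conjugate of `u` under `Ks` is `u` times a power of `x`
  set X : Subgroup Ks := zpowers (⟨x, hxK⟩ : Ks) with hX
  have hXmem : ∀ {a : Ks}, a ∈ X ↔ (a : L) ∈ zpowers x := by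
    intro a
    constructor
    · rintro ⟨k, rfl⟩; exact ⟨k, by simp⟩
    · rintro ⟨k, hk⟩; exact ⟨k, Subtype.ext (by simpa using hk)⟩
  have hKsN : ∀ k ∈ Ks, k * x * k⁻¹ ∈ zpowers x := by
    intro k hk
    have : Ks ≤ normalizer ((zpowers x : Subgroup L) : Set L) := by
      refine sup_le ?_ ?_
      · rw [show C = centralizer ((zpowers x : Subgroup L) : Set L) by rw [hC, zpowers_eq_closure,
          centralizer_closure]]
        exact centralizer_le_normalizer _
      · rw [zpowers_le, mem_normalizer_iff]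
        intro n
        constructor
        · rintro ⟨a, rfl⟩
          exact ⟨-a, by simp [inv_zpow_of_inverted hxi, zpow_neg]⟩
        · rintro ⟨a, ha⟩
          refine ⟨-a, ?_⟩
          have h2 := inv_zpow_of_inverted hxi a
          simp only at ha
          rw [ha] at h2
          show x ^ (-a) = n
          calc x ^ (-a) = (x ^ a)⁻¹ := zpow_neg x a
            _ = u⁻¹ * (u * (x ^ a)⁻¹ * u⁻¹) * u := by group
            _ = u⁻¹ * (u * x ^ a * u⁻¹)⁻¹ * u := by group
            _ = u⁻¹ * (u * n * u⁻¹) * u := by rw [inv_zpow_of_inverted hxi, inv_inv, ha]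
            _ = n := by group
    exact (mem_normalizer_iff.1 (this hk) x).1 (mem_zpowers x)
  have : X.Normal := ⟨fun a ha g => by
    rw [hXmem] at ha ⊢
    obtain ⟨k, hk⟩ := ha
    simp only at hk
    rw [Subgroup.coe_mul, Subgroup.coe_mul, Subgroup.coe_inv, ← hk, ← conj_zpow]
    exact zpow_mem (hKsN g g.2) k⟩
  set ub : Ks ⧸ X := QuotientGroup.mk' X ⟨u, huK⟩ with hub
  have hub2 : ub ^ 2 = 1 := by
    rw [hub, ← map_pow]
    exact (QuotientGroup.eq_one_iff _).2 (by
      rw [hXmem]; simp [sq, invol_mul_self hu])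
  obtain ⟨N, hN, hNp, huN⟩ : ∃ N : Subgroup (Ks ⧸ X), N.Normal ∧ IsPGroup 2 N ∧ ub ∈ N := by
    by_contra hno
    push Not at hno
    obtain ⟨wb, q, hq, hq2, hwo, hwi⟩ := CfsgLib.FgsB.exists_odd_prime_inverted_by hub2 hno
    obtain ⟨w0, rfl⟩ := QuotientGroup.mk'_surjective X wb
    set e : Ks := ⟨u, huK⟩ * w0 * (⟨u, huK⟩ : Ks)⁻¹ * w0⁻¹ with he
    have heb : QuotientGroup.mk' X e = (QuotientGroup.mk' X w0)⁻¹ * (QuotientGroup.mk' X w0)⁻¹ := by
      rw [he, map_mul, map_mul, map_mul, map_inv, map_inv, ← hub, hwi]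
    have hei : u * (e : L) * u⁻¹ = (e : L)⁻¹ := by
      simp only [he, Subgroup.coe_mul, Subgroup.coe_inv, invol_inv hu, mul_inv_rev, inv_inv]
      simp only [mul_assoc]
      rw [← mul_assoc u u, invol_mul_self hu, one_mul]
    have heC : (e : L) ∈ C := by
      have hn : Ks ≤ normalizer (C : Set L) := by
        refine sup_le le_normalizer ?_
        rw [zpowers_le, mem_normalizer_iff]
        intro h
        refine ⟨huC h, fun hh => ?_⟩
        have := huC _ hh
        simp only [invol_inv hu, mul_assoc, invol_mul_self hu, mul_one] at this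
        simpa only [← mul_assoc, invol_mul_self hu, one_mul] using this
      obtain ⟨h, hh, z, ⟨i, rfl⟩, hw⟩ : ∃ h ∈ C, ∃ z ∈ zpowers u, h * z = (w0 : L) := by
        have h1 : (w0 : L) ∈ ((C ⊔ zpowers u : Subgroup L) : Set L) := w0.2
        rw [Subgroup.coe_mul_of_right_le_normalizer_left C (zpowers u)
          (zpowers_le.2 (hn huK))] at h1
        exact h1
      have : (e : L) = u * h * u⁻¹ * h⁻¹ := by
        simp only [he, Subgroup.coe_mul, Subgroup.coe_inv, ← hw]
        group
      rw [this]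
      exact mul_mem (huC h hh) (inv_mem hh)
    obtain ⟨a, d, hd, hed⟩ :=
      Nat.exists_eq_pow_mul_and_not_dvd (orderOf_pos e).ne' 2 (by norm_num)
    set f := e ^ (2 ^ a) with hf
    have hfo : Odd (orderOf (f : L)) := by
      rw [orderOf_coe, hf, orderOf_pow, hed, Nat.gcd_eq_right (Dvd.intro _ rfl),
        Nat.mul_div_cancel_left _ (by positivity)]
      exact Nat.not_even_iff_odd.1 fun h => hd h.two_dvd
    have hfX : f ∈ X := by
      rw [hXmem, hf, Subgroup.coe_pow]
      refine hmax _ ((hCmem.1 heC).pow_left _) ?_ (inv_pow_of_inverted hei _)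
      rw [← Subgroup.coe_pow]; exact hfo
    have h1 : QuotientGroup.mk' X f = 1 := (QuotientGroup.eq_one_iff _).2 hfX
    rw [hf, map_pow, heb, ← mul_inv_rev, inv_pow, inv_eq_one, ← pow_two, ← pow_mul] at h1
    have hdvd := orderOf_dvd_of_pow_eq_one h1
    rw [hwo, ← pow_succ'] at hdvd
    exact hq2 ((Nat.prime_dvd_prime_iff_eq hq Nat.prime_two).1 (hq.dvd_of_dvd_pow hdvd))
  -- the part of the preimage inside `C` is `X`
  set N₀ : Subgroup Ks := N.comap (QuotientGroup.mk' X) ⊓ C.subgroupOf Ks with hN0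
  have hN0n : N₀.Normal := by
    have h1 : (N.comap (QuotientGroup.mk' X)).Normal := hN.comap _
    have h2 : (C.subgroupOf Ks).Normal := by
      rw [normal_subgroupOf_iff_le_normalizer hCK]
      refine sup_le le_normalizer ?_
      rw [zpowers_le, mem_normalizer_iff]
      intro h
      refine ⟨huC h, fun hh => ?_⟩
      have := huC _ hh
      simp only [invol_inv hu, mul_assoc, invol_mul_self hu, mul_one] at this
      simpa only [← mul_assoc, invol_mul_self hu, one_mul] using this
    exact Subgroup.normal_inf_normal _ _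
  have htwo : ∀ k : Ks, k ∈ N₀ → (∃ j, orderOf k = 2 ^ j) → k = 1 := by
    intro k hk hk2
    -- `N₀` is central-by-`2`, hence nilpotent: its Sylow 2-subgroup is normal in `Ks`
    set f : N₀ →* Ks ⧸ X := (QuotientGroup.mk' X).comp N₀.subtype with hf
    have hker : f.rangeRestrict.ker ≤ center N₀ := by
      intro z hz
      rw [MonoidHom.ker_rangeRestrict, MonoidHom.mem_ker] at hz
      obtain ⟨i, hi⟩ := hXmem.1 ((QuotientGroup.eq_one_iff _).1 hz)
      rw [mem_center_iff]
      intro q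
      refine Subtype.ext (Subtype.ext ?_)
      show ((q : Ks) : L) * ((z : Ks) : L) = ((z : Ks) : L) * ((q : Ks) : L)
      simp only [Subgroup.coe_subtype] at hi
      rw [← hi]
      exact ((hCmem.1 q.2.2).zpow_right i).eq
    have hrange : IsPGroup 2 f.range := hNp.to_le (by
      rintro _ ⟨q, rfl⟩
      exact q.2.1)
    have := hrange.isNilpotent
    have : Group.IsNilpotent N₀ := Subgroup.isNilpotent_of_ker_le_center f.rangeRestrict hker
    obtain ⟨j, hj⟩ := hk2
    obtain ⟨P, hP⟩ := (IsPGroup.of_card (G := zpowers (⟨k, hk⟩ : N₀)) (p := 2) (n := j) (by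
      rw [Nat.card_zpowers, Subgroup.orderOf_mk, hj])).exists_le_sylow
    have hPn : (P : Subgroup N₀).Normal :=
      P.normal_of_normalizerCondition Group.normalizerCondition_of_isNilpotent
    have hPc : (P : Subgroup N₀).Characteristic := P.characteristic_of_normal hPn
    have hM : ((P : Subgroup N₀).map N₀.subtype).Normal := inferInstance
    obtain ⟨R, hR⟩ := ((P.2.map N₀.subtype).map Ks.subtype).exists_le_sylow
    have hkM : k ∈ (P : Subgroup N₀).map N₀.subtype := ⟨⟨k, hk⟩, hP (mem_zpowers _), rfl⟩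
    refine Subtype.ext (K.eq_one_of_fix_all fun Q => smul_eq_of_mem ?_)
    obtain ⟨c, hc, rfl⟩ := K.trans x hx R Q
    rw [mem_smul]
    refine hR ?_
    refine ⟨(⟨c, hCK (hCmem.2 hc)⟩ : Ks)⁻¹ * k * ⟨c, hCK (hCmem.2 hc)⟩, ?_, ?_⟩
    · have := hM.conj_mem k hkM (⟨c, hCK (hCmem.2 hc)⟩ : Ks)⁻¹
      rwa [inv_inv] at this
    · simp
  have hN0X : ∀ k : Ks, k ∈ N₀ → k ∈ X := by
    intro k hk
    obtain ⟨a, d, hd, hkd⟩ :=
      Nat.exists_eq_pow_mul_and_not_dvd (orderOf_pos k).ne' 2 (by norm_num)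
    have hdd : Odd d := Nat.not_even_iff_odd.1 fun h => hd h.two_dvd
    have h1 : k ^ d = 1 := htwo _ (pow_mem hk _) ⟨a, by
      rw [orderOf_pow, hkd, Nat.gcd_eq_right (Dvd.intro_left _ rfl),
        Nat.mul_div_cancel _ hdd.pos]⟩
    have h2 : Odd (orderOf k) := Odd.of_dvd_nat hdd (orderOf_dvd_of_pow_eq_one h1)
    obtain ⟨i, hi⟩ := IsPGroup.iff_orderOf.1 hNp (⟨QuotientGroup.mk' X k, (mem_inf.1 hk).1⟩ : N)
    rw [← orderOf_coe] at hi
    have h3 : Odd (orderOf (QuotientGroup.mk' X k)) :=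
      Odd.of_dvd_nat h2 (orderOf_map_dvd _ k)
    rcases i with _ | i
    · rw [pow_zero, orderOf_eq_one_iff] at hi
      exact (QuotientGroup.eq_one_iff _).1 hi
    · rw [hi] at h3
      exact absurd h3 (Nat.not_odd_iff_even.2 ⟨2 ^ i, by ring⟩)
  -- the transitivity
  obtain ⟨c, hc, hcT⟩ := K.trans x hx S T
  have hcC : c ∈ C := hCmem.2 hc
  have hcu : u * (c * u * c⁻¹) ∈ zpowers x := by
    have hmem : (⟨u, huK⟩ * (⟨c, hCK hcC⟩ * ⟨u, huK⟩ * (⟨c, hCK hcC⟩)⁻¹) : Ks) ∈ N₀ := by
      refine mem_inf.2 ⟨?_, ?_⟩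
      · rw [mem_comap, map_mul, map_mul, map_mul, map_inv]
        exact mul_mem huN (hN.conj_mem _ huN _)
      · show u * (c * u * c⁻¹) ∈ C
        have e : u * (c * u * c⁻¹) = (u * c * u⁻¹) * c⁻¹ := by rw [invol_inv hu]; group
        rw [e]
        exact mul_mem (huC c hcC) (inv_mem hcC)
    exact hXmem.1 (hN0X _ hmem)
  obtain ⟨i, hi⟩ := hcu
  have hi' : c * u * c⁻¹ = u * x ^ i := by
    simp only at hi
    rw [hi, ← mul_assoc, invol_mul_self hu, one_mul]
  -- `u` and `u x^i` both fix `T`, hence `x^i` does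
  have hfix : x ^ i • T = T := by
    have h1 : (u * x ^ i) • T = T := by
      rw [← hi', ← hcT, mul_smul, mul_smul, inv_smul_smul, smul_eq_of_mem hS]
    rw [mul_smul] at h1
    have h2 : u⁻¹ • T = T := by rw [invol_inv hu]; exact smul_eq_of_mem hT
    have h3 : u⁻¹ • u • (x ^ i • T) = u⁻¹ • T := by rw [h1]
    rw [inv_smul_smul, h2] at h3
    exact h3
  have hxi1 : x ^ i = 1 := by
    by_contra hne
    exact K.not_fix (realOdd_of_inverted hne
      (Odd.of_dvd_nat hx.2.1 (orderOf_dvd_of_mem_zpowers (zpow_mem (mem_zpowers x) i)))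
      (inv_zpow_of_inverted hxi i)) T hfix
  refine ⟨c, ?_, ?_, hcT⟩
  · rw [hxi1, mul_one] at hi'
    exact mul_inv_eq_iff_eq_mul.1 hi'
  · obtain ⟨j, rfl⟩ := hyx
    exact hc.zpow_right j

/-- A central involution of one Sylow 2-subgroup is central in every one containing it. -/
theorem zInv_of_mem {S T : Sylow 2 L} {z : L} (hz : z ∈ zInv S) (hzT : z ∈ (T : Subgroup L)) :
    z ∈ zInv T := by
  rcases eq_or_ne z 1 with rfl | h1
  · exact one_mem _
  have hzo := orderOf_zInv hz h1
  obtain ⟨x, r, hr, hr2, hx, hxi⟩ := CfsgLib.FgsB.exists_odd_prime_inverted_by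
    (by rw [sq]; exact hz.2.1) (K.not_mem_normal_two hzo)
  obtain ⟨c, hc, -, rfl⟩ := K.exists_conj_sylow hzo
    (realOdd_of_inverted (fun e => hr.one_lt.ne' (by rw [← hx, e, orderOf_one]))
      (hx ▸ hr.odd_of_ne_two hr2) hxi) hxi hz.1 hzT
  have := zInv_smul hz c
  rwa [hc.eq, mul_inv_cancel_right] at this

end Setup

end CfsgLib.FgsD.RealGraph
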